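import Cfsg.Agent.H160.QFinal
import Cfsg.Agent.H955.QCount
import Cfsg.Agent.H23.FreeAct
import Cfsg.Agent.H453.OddM.Defs

/-!
# Real elements of odd order in the orthogonal groups, `q` odd (TEAM ODDM, S4785, piece C1b)

* `TT F d N c` : a torus generator `g` of order `N`, determinant one, spinor sign `-1`, inverted by an isometry,
  on a space of dimension `2 d` and class `c`; `tt_split` (`N = q ^ d - 1`), `nonsplit_full` (`N = q ^ d + 1`)
* `realP_omega_block` : `2 d + 2 ≤ dim`,  `v ∣ q ^ d ∓ 1` odd : `RealP (POmega F Q) v`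
* `realP_omega_odd`   : `dim = 2 d + 1`
* `realP_omega_minus` : `dim = 2 d`, `d` even, minus type, `v ∣ q ^ d + 1`
-/

set_option autoImplicit false
set_option linter.unusedSectionVars false
set_option linter.style.haveILetI false

namespace Cfsg.Agent.H453.OddM

open QuadraticMap Module
open Cfsg.Agent.LieClassical.OrthCore Cfsg.Agent.LieClassical.OrthFinite Cfsg.Agent.LieClassical.OrthForms
open Cfsg.Agent.H160.QSpin Cfsg.Agent.H160.QDisc Cfsg.Agent.H160.QModel Cfsg.Agent.H160.QFinal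
open Cfsg.Agent.H160.QReal Cfsg.Agent.H160.QSemi

/-! ### general facts on `RealP` -/

theorem realP_of_inj {S T : Type*} [Group S] [Group T] (f : S →* T) (hf : Function.Injective f) {v : ℕ}
    (h : RealP S v) : RealP T v := by
  obtain ⟨x, hx, hr⟩ := h
  exact ⟨f x, by rw [orderOf_injective f hf, hx], hr.map f⟩

/-- a real element of odd order keeps its order modulo the centre -/
theorem realP_center {G : Type*} [Group G] {v : ℕ} (hv : Odd v) (h : RealP G v) :
    RealP (G ⧸ Subgroup.center G) v := by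
  obtain ⟨x, hx, hr⟩ := h
  refine ⟨QuotientGroup.mk' _ x, ?_, hr.map (QuotientGroup.mk' _)⟩
  rw [← hx, orderOf_eq_orderOf_iff]
  intro j
  constructor
  · intro hj
    have h1 : x ^ j ∈ Subgroup.center G := by
      rw [← map_pow] at hj
      exact (QuotientGroup.eq_one_iff _).1 hj
    obtain ⟨g, hg⟩ := hr.pow j
    rw [Subgroup.mem_center_iff] at h1
    rw [h1 g, mul_inv_cancel_right] at hg
    have h2 : x ^ (j * 2) = 1 := by
      rw [pow_mul, pow_two]
      nth_rewrite 2 [hg]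
      exact mul_inv_cancel _
    have h3 : v ∣ j * 2 := by rw [← hx]; exact orderOf_dvd_of_pow_eq_one h2
    have h4 : v ∣ j := (Nat.coprime_two_right.2 hv).dvd_of_dvd_mul_right h3
    rw [← hx] at h4
    exact orderOf_dvd_iff_pow_eq_one.1 h4
  · intro hj
    rw [← map_pow, hj, map_one]

theorem RealP.dvd {G : Type*} [Group G] {v w : ℕ} (h : RealP G v) (hv : v ≠ 0) (hw : w ∣ v) : RealP G w := by
  obtain ⟨x, hx, hr⟩ := h
  refine ⟨x ^ (v / w), ?_, hr.pow _⟩
  rw [← hx] at hw hv ⊢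
  exact orderOf_pow_orderOf_div hv hw

theorem sq_eq_one_units {F : Type*} [Field F] {u : Fˣ} (h : u ^ 2 = 1) : u = 1 ∨ u = -1 := by
  have h1 : (u : F) * u = 1 := by rw [← Units.val_mul, ← pow_two, h]; rfl
  rcases mul_self_eq_one_iff.1 h1 with h | h
  · left; exact Units.ext h
  · right; exact Units.ext (by rw [h]; rfl)

theorem hom_eq_one {G A : Type*} [Group G] [CommGroup A] (φ : G →* A) {x y : G} {v : ℕ} (hv : Odd v)
    (hx : x ^ v = 1) (h : y * x * y⁻¹ = x⁻¹) : φ x = 1 := by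
  have h1 := congrArg φ h
  rw [map_mul, map_mul, map_inv, map_inv, mul_inv_cancel_comm] at h1
  refine eq_one_of_odd hv ?_ (by rw [← map_pow, hx, map_one])
  rw [pow_two]
  nth_rewrite 1 [h1]
  exact inv_mul_cancel _

section Abs

variable {F : Type*} [Field F] [Fintype F] {V : Type*} [AddCommGroup V] [Module F V] [FiniteDimensional F V] [Finite V]
  {Q : QuadraticForm F V}

/-- a real isometry of order `v` in the kernel of determinant and spinor sign -/
def RQ (Q : QuadraticForm F V) (v : ℕ) : Prop :=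
  ∃ x y : V ≃ₗ[F] V, El Q 1 x ∧ El Q 1 y ∧ orderOf x = v ∧ y * x * y⁻¹ = x⁻¹

theorem rq_adjust (hQ : Nondeg Q) {x y : V ≃ₗ[F] V} {v : ℕ} (hv : Odd v) (hxO : x ∈ O Q) (hyO : y ∈ O Q)
    (hx : orderOf x = v) (hyx : y * x * y⁻¹ = x⁻¹)
    (hd : LinearEquiv.det y = 1 ∨ ∃ z ∈ O Q, LinearEquiv.det z = -1 ∧ z * x = x * z)
    (hs : ∃ z : V ≃ₗ[F] V, El Q (-1) z ∧ z * x = x * z) : RQ Q v := by
  have hxv : x ^ v = 1 := by rw [← hx, pow_orderOf_eq_one]
  have key : ∀ z : V ≃ₗ[F] V, ∀ y : V ≃ₗ[F] V, y * x * y⁻¹ = x⁻¹ → z * x = x * z →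
      (y * z) * x * (y * z)⁻¹ = x⁻¹ := by
    intro z y hy hz
    calc (y * z) * x * (y * z)⁻¹ = y * (z * x) * (y * z)⁻¹ := by group
      _ = y * (x * z) * (y * z)⁻¹ := by rw [hz]
      _ = y * x * y⁻¹ := by group
      _ = x⁻¹ := hy
  obtain ⟨y₁, hy₁O, hy₁d, hy₁x⟩ : ∃ y₁ ∈ O Q, LinearEquiv.det y₁ = 1 ∧ y₁ * x * y₁⁻¹ = x⁻¹ := by
    rcases hd with h | ⟨z, hzO, hzd, hzx⟩
    · exact ⟨y, hyO, h, hyx⟩
    · rcases sq_eq_one_units (det_sq hQ hyO) with h | h
      · exact ⟨y, hyO, h, hyx⟩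
      · exact ⟨y * z, (O Q).mul_mem hyO hzO, by rw [map_mul, h, hzd, neg_mul_neg, one_mul], key z y hyx hzx⟩
  obtain ⟨z, ⟨hzO, hzd, hzs⟩, hzx⟩ := hs
  have hxd : LinearEquiv.det x = 1 := hom_eq_one LinearEquiv.det hv hxv hyx
  have hxs : spin Q ⟨x, hxO⟩ = 1 := by
    refine hom_eq_one (spin Q) (y := ⟨y, hyO⟩) hv (Subtype.ext ?_) (Subtype.ext ?_)
    · show x ^ v = 1
      exact hxv
    · exact hyx
  rcases Int.units_eq_one_or (spin Q ⟨y₁, hy₁O⟩) with h | h
  · exact ⟨x, y₁, ⟨hxO, hxd, hxs⟩, ⟨hy₁O, hy₁d, h⟩, hx, hy₁x⟩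
  · refine ⟨x, y₁ * z, ⟨hxO, hxd, hxs⟩, ?_, hx, key z y₁ hy₁x hzx⟩
    have := El.mul (Q := Q) ⟨hy₁O, hy₁d, h⟩ ⟨hzO, hzd, hzs⟩
    simpa using this

theorem RQ.cj {W : Type*} [AddCommGroup W] [Module F W] [FiniteDimensional F W] [Finite W] {Q' : QuadraticForm F W}
    {v : ℕ} (h : RQ Q v) {e : V ≃ₗ[F] W} (he : IsIso Q Q' e) : RQ Q' v := by
  obtain ⟨x, y, hx, hy, hv, hyx⟩ := h
  refine ⟨Cfsg.Agent.H160.QSpin.cj e x, Cfsg.Agent.H160.QSpin.cj e y, hx.cj he, hy.cj he, by rw [orderOf_cj, hv], ?_⟩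
  have h1 := congrArg (cjEquiv e) hyx
  rw [map_mul, map_mul, map_inv, map_inv] at h1
  exact h1

theorem realP_pomega {ι : Type} [Fintype ι] [DecidableEq ι] (h2 : (2 : F) ≠ 0) {Q : QuadraticForm F (ι → F)}
    (hQ : Nondeg Q) (hd : 5 ≤ Fintype.card ι) {v : ℕ} (hv : Odd v) (h : RQ Q v) : RealP (Cfsg.POmega F ⇑Q) v := by
  obtain ⟨x, y, hx, hy, hxv, hyx⟩ := h
  obtain ⟨X, rfl⟩ := exists_lin h2 hQ hd hx
  obtain ⟨Y, rfl⟩ := exists_lin h2 hQ hd hy
  refine realP_center hv ⟨X, by rw [← orderOf_lin, hxv], Y, lin_injective Q ?_⟩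
  rw [map_mul, map_mul, map_inv, map_inv, hyx]

/-! ### the spinor sign of a torus generator -/

theorem odd_card_of_two (h2 : (2 : F) ≠ 0) : Odd (Fintype.card F) := by
  obtain ⟨e, he⟩ := Cfsg.Agent.H160.QUpper.card_odd_eq (F := F) h2
  exact ⟨e, he⟩

theorem spin_of_free (h2 : (2 : F) ≠ 0) (hQ : Nondeg Q) {d : ℕ} (hd : finrank F V = 2 * d) (hd0 : d ≠ 0)
    {g : V ≃ₗ[F] V} (hg : g ∈ O Q) {N : ℕ} (hN : orderOf g = N)
    (hfree : ∀ i, 0 < i → i < N → ∀ x, (g ^ i) x = x → x = 0)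
    (h : (Cfsg.Agent.H955.IsPlus Q ∧ N + 1 = Fintype.card F ^ d) ∨ N = Fintype.card F ^ d + 1) :
    spin Q ⟨g, hg⟩ = -1 ∧ (N = Fintype.card F ^ d + 1 → ¬ Cfsg.Agent.H955.IsPlus Q) := by
  classical
  let _ := Fintype.ofFinite {x : V // Q x = 1}
  set q := Fintype.card F with hq
  have hqo : Odd q := odd_card_of_two h2
  have hq3 : 3 ≤ q := by
    have h1 := Fintype.one_lt_card (α := F)
    obtain ⟨k, hk⟩ := hqo
    omega
  have hqd : q ≤ q ^ d := Nat.le_self_pow hd0 q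
  have hqdo : Odd (q ^ d) := hqo.pow
  have hNpos : 2 ≤ N ∧ Even N := by
    obtain ⟨k, hk⟩ := hqdo
    rcases h with ⟨-, h⟩ | h
    · exact ⟨by omega, ⟨k, by omega⟩⟩
    · exact ⟨by omega, ⟨k + 1, by omega⟩⟩
  set σ := qperm Q ⟨g, hg⟩ with hσ
  have hσpow : ∀ (i : ℕ) (x : {x : V // Q x = 1}), (((σ ^ i) x : {x : V // Q x = 1}) : V) = (g ^ i) x := by
    intro i x
    rw [hσ, ← map_pow, qperm_apply]
    rfl
  have hgN : g ^ N = 1 := by rw [← hN, pow_orderOf_eq_one]
  have hσN : σ ^ N = 1 := by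
    ext x
    rw [hσpow, hgN]
    rfl
  have hσfree : ∀ i, 0 < i → i < N → ∀ x, (σ ^ i) x ≠ x := by
    intro i h0 h1 x hx
    have h3 := hσpow i x
    rw [hx] at h3
    have h4 := hfree i h0 h1 x h3.symm
    have h5 := x.2
    rw [h4, map_zero] at h5
    exact zero_ne_one h5
  -- the cardinality
  have hcard : (Cfsg.Agent.H955.IsPlus Q → q * Nat.card {x : V // Q x = 1} + q ^ d = q ^ (2 * d)) ∧
      (¬ Cfsg.Agent.H955.IsPlus Q → q * Nat.card {x : V // Q x = 1} = q ^ (2 * d) + q ^ d) := by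
    constructor
    · intro hP
      have := Cfsg.Agent.H955.card_eq_one_of_isPlus hQ hd hP
      rwa [Nat.card_eq_fintype_card (α := F)] at this
    · intro hP
      have := Cfsg.Agent.H955.card_eq_one_of_not_isPlus hQ hd hP
      rwa [Nat.card_eq_fintype_card (α := F)] at this
  set n := Nat.card {x : V // Q x = 1} with hn
  have h2d : q ^ (2 * d) = q ^ d * q ^ d := by rw [two_mul, pow_add]
  have hnpos : 0 < n := by
    by_contra h0
    have h0' : n = 0 := by omega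
    by_cases hP : Cfsg.Agent.H955.IsPlus Q
    · have := hcard.1 hP
      rw [h0', mul_zero, zero_add, h2d] at this
      have h3 : 1 < q ^ d := by omega
      nlinarith
    · have := hcard.2 hP
      rw [h0', mul_zero] at this
      have h3 : 0 < q ^ d := by omega
      omega
  have hdiv : N ∣ n := by
    have horder : orderOf σ = N := by
      apply Nat.dvd_antisymm (orderOf_dvd_of_pow_eq_one hσN)
      by_contra hne
      have h3 : orderOf σ ∣ N := orderOf_dvd_of_pow_eq_one hσN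
      have h4 : orderOf σ ≤ N := Nat.le_of_dvd (by omega) h3
      have h5 : orderOf σ ≠ N := fun h => hne (by rw [h])
      obtain ⟨⟨x⟩, -⟩ := Nat.card_pos_iff.1 hnpos
      exact hσfree (orderOf σ) (orderOf_pos σ) (by omega) x (by rw [pow_orderOf_eq_one]; rfl)
    have h3 := Cfsg.Agent.H23.FreeAct.card_dvd_of_free (D := Subgroup.zpowers σ) (α := {x : V // Q x = 1}) (by
      rintro ⟨τ, hτ⟩ x hx
      obtain ⟨k, rfl⟩ := Subgroup.mem_zpowers_iff.1 hτ
      apply Subtype.ext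
      have hx' : (σ ^ k) x = x := hx
      have hpos : (0 : ℤ) < (orderOf σ : ℤ) := by exact_mod_cast orderOf_pos σ
      have h5 := zpow_mod_orderOf σ k
      obtain ⟨m, hm⟩ := Int.eq_ofNat_of_zero_le (Int.emod_nonneg k hpos.ne')
      have hlt := Int.emod_lt_of_pos k hpos
      rw [hm, zpow_natCast] at h5
      rw [hm] at hlt
      have hlt' : m < N := by rw [← horder]; exact_mod_cast hlt
      rcases Nat.eq_zero_or_pos m with h0 | h0
      · rw [h0, pow_zero] at h5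
        exact h5.symm
      · rw [← h5] at hx'
        exact absurd hx' (hσfree m h0 hlt' x))
    rwa [Nat.card_zpowers, horder] at h3
  obtain ⟨d', rfl⟩ : ∃ d', d = d' + 1 := ⟨d - 1, by omega⟩
  have hqs : q ^ (d' + 1) = q * q ^ d' := by rw [pow_succ, mul_comm]
  have hq0 : 0 < q := by omega
  have hplus' : Cfsg.Agent.H955.IsPlus Q → n + q ^ d' = q ^ d' * q ^ (d' + 1) := by
    intro hP
    have h3 := hcard.1 hP
    rw [h2d] at h3
    apply Nat.eq_of_mul_eq_mul_left hq0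
    calc q * (n + q ^ d') = q * n + q * q ^ d' := by ring
      _ = q * n + q ^ (d' + 1) := by rw [← hqs]
      _ = q ^ (d' + 1) * q ^ (d' + 1) := h3
      _ = q * q ^ d' * q ^ (d' + 1) := by rw [← hqs]
      _ = q * (q ^ d' * q ^ (d' + 1)) := by ring
  have hminus' : ¬ Cfsg.Agent.H955.IsPlus Q → n = q ^ d' * q ^ (d' + 1) + q ^ d' := by
    intro hP
    have h3 := hcard.2 hP
    rw [h2d] at h3
    apply Nat.eq_of_mul_eq_mul_left hq0
    calc q * n = q ^ (d' + 1) * q ^ (d' + 1) + q ^ (d' + 1) := h3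
      _ = q * q ^ d' * q ^ (d' + 1) + q * q ^ d' := by rw [← hqs]
      _ = q * (q ^ d' * q ^ (d' + 1) + q ^ d') := by ring
  -- minus type if `N = q ^ d + 1`
  have hminus : N = q ^ (d' + 1) + 1 → ¬ Cfsg.Agent.H955.IsPlus Q := by
    intro hN' hP
    have h3 := hplus' hP
    have h4 : n + 2 * q ^ d' = q ^ d' * N := by
      rw [hN', mul_add, mul_one, ← h3]
      ring
    have h5 : N ∣ 2 * q ^ d' := by
      have h6 : N ∣ n + 2 * q ^ d' := by rw [h4]; exact Dvd.intro_left _ rfl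
      exact (Nat.dvd_add_right hdiv).1 h6
    have hcop : Nat.Coprime N (q ^ d') := by
      rw [hN', hqs]
      simp
    have h6 := Nat.le_of_dvd (by omega) (hcop.dvd_of_dvd_mul_right h5)
    omega
  have hnN : n = q ^ d' * N := by
    rcases h with ⟨hP, h⟩ | h
    · have h3 := hplus' hP
      have h4 : q ^ (d' + 1) = N + 1 := by omega
      rw [h4, mul_add, mul_one] at h3
      omega
    · have h3 := hminus' (hminus h)
      rw [h3, h]
      ring
  refine ⟨?_, hminus⟩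
  rcases Int.units_eq_one_or (spin Q ⟨g, hg⟩) with hs | hs
  · exfalso
    rw [spin_apply] at hs
    rcases sign_semireg σ (by omega) hσN hσfree hs with h3 | h3
    · exact Nat.not_even_iff_odd.2 h3 hNpos.2
    · rw [← Nat.card_eq_fintype_card, ← hn, hnN] at h3
      have h4 : 2 ∣ q ^ d' := by
        rw [mul_comm] at h3
        exact Nat.dvd_of_mul_dvd_mul_left (by omega : 0 < N) (by rwa [mul_comm (q ^ d') N] at h3)
      exact Nat.not_even_iff_odd.2 (hqo.pow (n := d')) (even_iff_two_dvd.2 h4)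
  · exact hs

end Abs

section Tor

variable {F : Type*} [Field F] [Fintype F] [DecidableEq F]

/-- a torus generator: order `N`, determinant one, spinor sign `-1`, inverted by an isometry -/
def TT (F : Type*) [Field F] [Fintype F] [DecidableEq F] (d N : ℕ) : Prop :=
  ∃ (Q : QuadraticForm F (Fin (2 * d) → F)) (g y : (Fin (2 * d) → F) ≃ₗ[F] (Fin (2 * d) → F)),
    Nondeg Q ∧ El Q (-1) g ∧ orderOf g = N ∧ y ∈ O Q ∧ y * g * y⁻¹ = g⁻¹

/-- the same, minus type, and the inverting isometry has determinant `(-1) ^ d` -/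
def TM (F : Type*) [Field F] [Fintype F] [DecidableEq F] (d N : ℕ) : Prop :=
  ∃ (Q : QuadraticForm F (Fin (2 * d) → F)) (g y : (Fin (2 * d) → F) ≃ₗ[F] (Fin (2 * d) → F)),
    Nondeg Q ∧ ¬ Cfsg.Agent.H955.IsPlus Q ∧ El Q (-1) g ∧ orderOf g = N ∧ y ∈ O Q ∧ LinearEquiv.det y = (-1) ^ d ∧
      y * g * y⁻¹ = g⁻¹

theorem TM.tt {d N : ℕ} (h : TM F d N) : TT F d N := by
  obtain ⟨Q, g, y, h1, -, h3, h4, h5, -, h7⟩ := h
  exact ⟨Q, g, y, h1, h3, h4, h5, h7⟩

theorem TT.of {V : Type*} [AddCommGroup V] [Module F V] [FiniteDimensional F V] [Finite V] {Q : QuadraticForm F V}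
    (hQ : Nondeg Q) {g y : V ≃ₗ[F] V} (hg : El Q (-1) g) (hy : y ∈ O Q) (hyg : y * g * y⁻¹ = g⁻¹) {d : ℕ}
    (hn : finrank F V = 2 * d) : TT F d (orderOf g) := by
  obtain ⟨Q', e, he⟩ := exists_fin Q hn
  refine ⟨Q', _, Cfsg.Agent.H160.QSpin.cj e y, he.nondeg hQ, hg.cj he, orderOf_cj e g, cj_mem_O he hy, ?_⟩
  have h1 := congrArg (cjEquiv e) hyg
  rw [map_mul, map_mul, map_inv, map_inv] at h1
  exact h1

theorem TM.of {V : Type*} [AddCommGroup V] [Module F V] [FiniteDimensional F V] [Finite V] {Q : QuadraticForm F V}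
    (hQ : Nondeg Q) (hP : ¬ Cfsg.Agent.H955.IsPlus Q) {g y : V ≃ₗ[F] V} (hg : El Q (-1) g) (hy : y ∈ O Q)
    (hyg : y * g * y⁻¹ = g⁻¹) {d : ℕ} (hn : finrank F V = 2 * d) (hd : LinearEquiv.det y = (-1) ^ d) :
    TM F d (orderOf g) := by
  obtain ⟨Q', e, he⟩ := exists_fin Q hn
  refine ⟨Q', _, Cfsg.Agent.H160.QSpin.cj e y, he.nondeg hQ, fun hP' => hP ?_, hg.cj he, orderOf_cj e g,
    cj_mem_O he hy, by rw [det_cj, hd], ?_⟩
  · exact hP'.of_equiv e.symm he.symm
  · have h1 := congrArg (cjEquiv e) hyg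
    rw [map_mul, map_mul, map_inv, map_inv] at h1
    exact h1

/-- **The split torus.** -/
theorem tt_split (h2 : (2 : F) ≠ 0) {d : ℕ} (hd : d ≠ 0) : TT F d (Fintype.card F ^ d - 1) := by
  obtain ⟨p, hpF⟩ := CharP.exists F
  have hp : Fact p.Prime := ⟨CharP.char_is_prime F p⟩
  have : NeZero d := ⟨hd⟩
  let L := FiniteField.Extension F p d
  have hcard : Nat.card L = Fintype.card F ^ d := by
    rw [FiniteField.natCard_extension, Nat.card_eq_fintype_card]
  have hfr : finrank F L = d := FiniteField.finrank_extension F p d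
  obtain ⟨ζ, hζ⟩ := exists_gen hcard
  let B : LinearMap.BilinForm F (L × L) := LinearMap.mk₂ F (fun x y => Algebra.trace F L (x.1 * y.2))
    (fun x x' y => by simp only [Prod.fst_add, add_mul, map_add])
    (fun c x y => by simp only [Prod.smul_fst, smul_mul_assoc, map_smul])
    (fun x y y' => by simp only [Prod.snd_add, mul_add, map_add])
    (fun c x y => by simp only [Prod.smul_snd, mul_smul_comm, map_smul])
  have hB : ∀ x y, B x y = Algebra.trace F L (x.1 * y.2) := fun x y => rfl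
  have htr : ∀ x : L, (∀ y : L, Algebra.trace F L (x * y) = 0) → x = 0 := by
    intro x hx
    exact (traceForm_nondegenerate F L).1 x hx
  have hQ : Nondeg (qf B) := by
    intro x hx
    apply Prod.ext
    · apply htr
      intro y
      have := hx (0, y)
      rw [polar_qf, hB, hB] at this
      simpa using this
    · apply htr
      intro y
      have := hx (y, 0)
      rw [polar_qf, hB, hB] at this
      rw [mul_comm]
      simpa using this
  have hg : pr (ml F L ζ) (ml F L ζ⁻¹) ∈ O (qf B) := by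
    apply mem_O_qf
    intro x y
    rw [hB, hB, pr_apply, pr_apply]
    show Algebra.trace F L ((ζ * x.1) * (((ζ⁻¹ : Lˣ) : L) * y.2)) = _
    congr 1
    have : (ζ : L) * ((ζ⁻¹ : Lˣ) : L) = 1 := Units.mul_inv ζ
    linear_combination (x.1 * y.2) * this
  have hdet : LinearEquiv.det (pr (ml F L ζ) (ml F L ζ⁻¹)) = 1 := by
    rw [det_pr, map_inv, map_inv, mul_inv_cancel]
  have hord : orderOf (pr (ml F L ζ) (ml F L ζ⁻¹)) = Fintype.card F ^ d - 1 := by
    rw [orderOf_pr, orderOf_ml, orderOf_ml, orderOf_inv, Nat.lcm_self, hζ]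
  have hfr2 : finrank F (L × L) = 2 * d := by rw [finrank_prod, hfr, two_mul]
  have hP : Cfsg.Agent.H955.IsPlus (qf B) := by
    refine ⟨LinearMap.range (LinearMap.inl F L L), ?_, ?_⟩
    · rintro _ ⟨x, rfl⟩
      rw [qf_apply, hB]
      simp
    · rw [LinearMap.finrank_range_of_inj LinearMap.inl_injective, hfr, hfr2]
  have hqpos : 0 < Fintype.card F := Fintype.card_pos
  have hfree : ∀ i, 0 < i → i < Fintype.card F ^ d - 1 → ∀ x : L × L,
      ((pr (ml F L ζ) (ml F L ζ⁻¹)) ^ i) x = x → x = 0 := by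
    intro i h0 h1 x hx
    rw [pr_pow, pr_apply, ← map_pow, ← map_pow] at hx
    have h3 := congrArg Prod.fst hx
    have h4 := congrArg Prod.snd hx
    simp only [ml_apply] at h3 h4
    have h5 : ζ ^ i ≠ 1 := by
      intro h
      have := Nat.le_of_dvd h0 (orderOf_dvd_of_pow_eq_one h)
      omega
    have h6 : (ζ⁻¹) ^ i ≠ 1 := by
      rw [inv_pow]
      exact inv_ne_one.2 h5
    have key : ∀ (u : Lˣ) (w : L), u ≠ 1 → (u : L) * w = w → w = 0 := by
      intro u w hu hw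
      have h7 : ((u : L) - 1) * w = 0 := by rw [sub_mul, hw, one_mul, sub_self]
      rcases mul_eq_zero.1 h7 with h | h
      · exact absurd (Units.ext (sub_eq_zero.1 h)) hu
      · exact h
    exact Prod.ext (key _ _ h5 h3) (key _ _ h6 h4)
  have hspin := (spin_of_free h2 hQ hfr2 hd hg hord hfree (Or.inl ⟨hP, by
    have := Nat.one_le_pow d _ hqpos
    omega⟩)).1
  have hy : (LinearEquiv.prodComm F L L : (L × L) ≃ₗ[F] (L × L)) ∈ O (qf B) := by
    intro x
    rw [qf_apply, qf_apply, hB, hB]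
    congr 1
    exact mul_comm _ _
  have := TT.of hQ (g := pr (ml F L ζ) (ml F L ζ⁻¹)) (y := LinearEquiv.prodComm F L L) ⟨hg, hdet, hspin⟩ hy ?_ hfr2
  · rwa [hord] at this
  · rw [mul_inv_eq_iff_eq_mul, eq_inv_mul_iff_mul_eq]
    ext x
    · simp [pr_apply, ml_apply]
    · simp only [pr_apply, ml_apply, LinearEquiv.mul_apply, LinearEquiv.prodComm_apply, map_inv,
        Prod.swap]
      exact (ml F L ζ).symm_apply_apply x.1

/-- the determinant of an involution which anticommutes with an injective map -/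
theorem det_of_anti (h2 : (2 : F) ≠ 0) {V : Type*} [AddCommGroup V] [Module F V] [FiniteDimensional F V]
    {s k : Module.End F V} (hs : ∀ v, s (s v) = v) (hk : Function.Injective k) (hsk : ∀ v, s (k v) = -k (s v)) {d : ℕ}
    (hd : finrank F V = 2 * d) : LinearMap.det s = (-1) ^ d := by
  let U : Submodule F V := LinearMap.ker (s - 1)
  let W : Submodule F V := LinearMap.ker (s + 1)
  have hU : ∀ v, v ∈ U ↔ s v = v := fun v => by
    change (s - 1) v = 0 ↔ _
    rw [LinearMap.sub_apply, Module.End.one_apply, sub_eq_zero]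
  have hW : ∀ v, v ∈ W ↔ s v = -v := fun v => by
    change (s + 1) v = 0 ↔ _
    rw [LinearMap.add_apply, Module.End.one_apply, add_eq_zero_iff_eq_neg]
  have hc : IsCompl U W := by
    constructor
    · rw [Submodule.disjoint_def]
      intro v h1 h3
      rw [hU] at h1
      rw [hW, h1] at h3
      have h4 : (2 : F) • v = 0 := by
        rw [two_smul]
        nth_rewrite 2 [h3]
        exact add_neg_cancel v
      exact (smul_eq_zero.1 h4).resolve_left h2
    · rw [codisjoint_iff, eq_top_iff]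
      intro v _
      rw [Submodule.mem_sup]
      refine ⟨(2 : F)⁻¹ • (v + s v), ?_, (2 : F)⁻¹ • (v - s v), ?_, ?_⟩
      · rw [hU, map_smul, map_add, hs, add_comm]
      · rw [hW, map_smul, map_sub, hs, ← smul_neg, neg_sub]
      · rw [← smul_add]
        have : v + s v + (v - s v) = (2 : F) • v := by rw [two_smul]; abel
        rw [this, smul_smul, inv_mul_cancel₀ h2, one_smul]
  have h1 : finrank F U ≤ finrank F W := by
    refine LinearMap.finrank_le_finrank_of_injective (f := (k.comp U.subtype).codRestrict W fun u => ?_) ?_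
    · rw [hW]
      change s (k u) = -k u
      rw [hsk, (hU _).1 u.2]
    · intro a b hab
      exact Subtype.ext (hk (congrArg Subtype.val hab))
  have h3 : finrank F W ≤ finrank F U := by
    refine LinearMap.finrank_le_finrank_of_injective (f := (k.comp W.subtype).codRestrict U fun u => ?_) ?_
    · rw [hU]
      change s (k u) = k u
      rw [hsk, (hW _).1 u.2, map_neg, neg_neg]
    · intro a b hab
      exact Subtype.ext (hk (congrArg Subtype.val hab))
  have h4 := Submodule.finrank_add_eq_of_isCompl hc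
  have h5 : finrank F W = d := by omega
  let e := Submodule.prodEquivOfIsCompl _ _ hc
  have he : s = (e : (U × W) →ₗ[F] V) ∘ₗ
      ((LinearMap.id : U →ₗ[F] U).prodMap ((-1 : F) • (LinearMap.id : W →ₗ[F] W))) ∘ₗ
      (e.symm : V →ₗ[F] (U × W)) := by
    apply LinearMap.ext
    intro v
    obtain ⟨p, rfl⟩ := e.surjective v
    have h1 : e p = (p.1 : V) + (p.2 : V) := rfl
    simp only [LinearMap.comp_apply, LinearEquiv.coe_coe, LinearEquiv.symm_apply_apply, LinearMap.prodMap_apply]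
    rw [h1, map_add, (hU _).1 p.1.2, (hW _).1 p.2.2]
    have h3 : ∀ x : U × W, e x = (x.1 : V) + (x.2 : V) := fun _ => rfl
    rw [h3]
    simp
  conv_lhs => rw [he]
  rw [LinearMap.det_conj, LinearMap.det_prodMap, LinearMap.det_id, one_mul,
    LinearMap.det_smul, LinearMap.det_id, mul_one, h5]

theorem nonsplit_aux (h2 : (2 : F) ≠ 0) {d q : ℕ} (hq : q = Fintype.card F) (hd : d ≠ 0) {L : Type} [Field L] [Algebra F L]
    [Finite L] [FiniteDimensional F L] [Algebra.IsSeparable F L]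
    (hfr : finrank F L = 2 * d) (hcard : Nat.card L = q ^ (2 * d)) (σ : L ≃ₐ[F] L)
    (hσ : ∀ x : L, σ x = x ^ (q ^ d)) : TM F d (q ^ d + 1) := by
  have hq1 : 1 < q := hq ▸ Fintype.one_lt_card
  obtain ⟨ζ, hζ⟩ := exists_gen hcard
  have hqd : 1 < q ^ d := Nat.one_lt_pow hd hq1
  have hfac : q ^ (2 * d) - 1 = (q ^ d - 1) * (q ^ d + 1) := by
    have := Nat.sq_sub_sq (q ^ d) 1
    rw [← pow_mul, one_pow, mul_comm d 2] at this
    rw [this, mul_comm]
  have hσσ : ∀ x : L, σ (σ x) = x := by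
    intro x
    rw [hσ, hσ, ← pow_mul, ← pow_add, ← two_mul]
    have := Fintype.ofFinite L
    have h3 := FiniteField.pow_card x
    rw [← Nat.card_eq_fintype_card, hcard] at h3
    exact h3
  let B : LinearMap.BilinForm F L := LinearMap.mk₂ F (fun x y => Algebra.trace F L (x * σ y))
    (fun x x' y => by simp only [add_mul, map_add])
    (fun c x y => by simp only [smul_mul_assoc, map_smul])
    (fun x y y' => by simp only [map_add, mul_add])
    (fun c x y => by simp only [map_smul, mul_smul_comm])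
  have hB : ∀ x y, B x y = Algebra.trace F L (x * σ y) := fun x y => rfl
  have htr : ∀ x : L, (∀ y : L, Algebra.trace F L (x * y) = 0) → x = 0 := by
    intro x hx
    exact (traceForm_nondegenerate F L).1 x hx
  have hsymm : ∀ x y, B x y = B y x := by
    intro x y
    rw [hB, hB, ← Algebra.trace_eq_of_algEquiv σ (x * σ y), map_mul, hσσ, mul_comm (σ x) y]
  have hQ : Nondeg (qf B) := by
    refine nondeg_qf h2 hsymm ?_
    intro x hx
    apply htr
    intro y
    have := hx (σ y)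
    rw [hB, hσσ] at this
    exact this
  let z : Lˣ := ζ ^ (q ^ d - 1)
  have hzord : orderOf z = q ^ d + 1 := by
    have h3 : orderOf ζ ≠ 0 := by
      rw [hζ, hfac]
      exact Nat.mul_ne_zero (by omega) (by omega)
    have h4 := orderOf_pow_of_dvd (x := ζ) (n := q ^ d - 1) (by omega) (by rw [hζ, hfac]; exact Dvd.intro _ rfl)
    rw [h4, hζ, hfac, Nat.mul_div_cancel_left _ (by omega)]
  have hzz : (z : L) * σ z = 1 := by
    rw [hσ, ← Units.val_pow_eq_pow_val, ← Units.val_mul, ← pow_succ', ← hzord, pow_orderOf_eq_one]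
    rfl
  have hg : ml F L z ∈ O (qf B) := by
    apply mem_O_qf
    intro x y
    rw [hB, hB, ml_apply, ml_apply, map_mul σ]
    congr 1
    linear_combination (x * σ y) * hzz
  have hnorm : Algebra.norm F (z : L) = 1 := by
    have h3 : Algebra.norm F (z : L) * Algebra.norm F (ζ : L) = 1 * Algebra.norm F (ζ : L) := by
      rw [one_mul, ← map_mul (Algebra.norm F)]
      have h4 : (z : L) * ζ = σ ζ := by
        rw [hσ, ← Units.val_mul, ← pow_succ, Nat.sub_add_cancel hqd.le, Units.val_pow_eq_pow_val]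
      rw [h4]
      exact Algebra.norm_eq_of_algEquiv σ _
    exact mul_right_cancel₀ (by
      rw [Ne, Algebra.norm_eq_zero_iff]
      exact ζ.ne_zero) h3
  have hdet : LinearEquiv.det (ml F L z) = 1 := by
    apply Units.ext
    rw [det_ml, hnorm, Units.val_one]
  have hord : orderOf (ml F L z) = q ^ d + 1 := by rw [orderOf_ml, hzord]
  have hfree : ∀ i, 0 < i → i < q ^ d + 1 → ∀ x : L, ((ml F L z) ^ i) x = x → x = 0 := by
    intro i h0 h1 x hx
    rw [← map_pow, ml_apply] at hx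
    have h5 : z ^ i ≠ 1 := by
      intro h
      have := Nat.le_of_dvd h0 (orderOf_dvd_of_pow_eq_one h)
      omega
    have h7 : (((z ^ i : Lˣ) : L) - 1) * x = 0 := by rw [sub_mul, hx, one_mul, sub_self]
    rcases mul_eq_zero.1 h7 with h | h
    · exact absurd (Units.ext (sub_eq_zero.1 h)) h5
    · exact h
  obtain ⟨hspin, hP⟩ := spin_of_free h2 hQ hfr hd hg hord hfree (Or.inr (by rw [hq]))
  -- the inverting isometry
  let y : L ≃ₗ[F] L := σ.toLinearEquiv
  have hyap : ∀ x, y x = σ x := fun _ => rfl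
  have hy : y ∈ O (qf B) := by
    apply mem_O_qf
    intro u v
    rw [hB, hB, hyap, hyap, ← map_mul]
    exact Algebra.trace_eq_of_algEquiv σ _
  have hσz : σ (z : L) = ((z⁻¹ : Lˣ) : L) := by
    rw [← mul_right_inj' z.ne_zero, hzz, Units.mul_inv]
  have hyg : y * ml F L z * y⁻¹ = (ml F L z)⁻¹ := by
    rw [mul_inv_eq_iff_eq_mul, ← map_inv]
    ext x
    show σ ((z : L) * x) = ((z⁻¹ : Lˣ) : L) * σ x
    rw [map_mul, hσz]
  have hdety : LinearEquiv.det y = (-1) ^ d := by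
    have hκ : (z : L) - ((z⁻¹ : Lˣ) : L) ≠ 0 := by
      intro h3
      have h4 : z = z⁻¹ := Units.ext (sub_eq_zero.1 h3)
      have h5 : z ^ 2 = 1 := by
        rw [pow_two]
        nth_rewrite 2 [h4]
        exact mul_inv_cancel z
      have h6 := Nat.le_of_dvd (by norm_num) (orderOf_dvd_of_pow_eq_one h5)
      rw [hzord] at h6
      omega
    apply Units.ext
    rw [LinearEquiv.coe_det]
    have h3 := det_of_anti (F := F) h2 (s := (y : L →ₗ[F] L)) (k := LinearMap.mulLeft F ((z : L) - ((z⁻¹ : Lˣ) : L)))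
      (fun v => hσσ v) (fun a b hab => mul_left_cancel₀ hκ hab) (fun v => by
        show σ (((z : L) - ((z⁻¹ : Lˣ) : L)) * v) = -(((z : L) - ((z⁻¹ : Lˣ) : L)) * σ v)
        have h6 : σ ((z⁻¹ : Lˣ) : L) = z := by rw [← hσz, hσσ]
        rw [map_mul, map_sub, hσz, h6]
        ring) hfr
    rw [h3]
    simp
  have := TM.of hQ (hP (by rw [hq])) (g := ml F L z) ⟨hg, hdet, hspin⟩ hy hyg hfr hdety
  rwa [hord] at this

/-- **The nonsplit torus.** -/
theorem tm_nonsplit (h2 : (2 : F) ≠ 0) {d : ℕ} (hd : d ≠ 0) : TM F d (Fintype.card F ^ d + 1) := by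
  obtain ⟨p, hpF⟩ := CharP.exists F
  have hp : Fact p.Prime := ⟨CharP.char_is_prime F p⟩
  have : NeZero (2 * d) := ⟨by omega⟩
  refine nonsplit_aux h2 rfl hd (L := FiniteField.Extension F p (2 * d)) (FiniteField.finrank_extension F p (2 * d))
    (by rw [FiniteField.natCard_extension, Nat.card_eq_fintype_card])
    (FiniteField.Extension.frob F p (2 * d) ^ d) ?_
  intro x
  have := FiniteField.Extension.frob_iterate_apply F p (2 * d) d (x := x)
  rw [Nat.card_eq_fintype_card] at this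
  exact this

end Tor

section Final

variable {F : Type*} [Field F] [Fintype F] [DecidableEq F]

/-- the element: a power of the generator -/
theorem elt_of_gen {V : Type*} [AddCommGroup V] [Module F V] [FiniteDimensional F V] [Finite V] {Q : QuadraticForm F V}
    {g y : V ≃ₗ[F] V} {N : ℕ} (hg : El Q (-1) g) (ho : orderOf g = N) (hyg : y * g * y⁻¹ = g⁻¹)
    (hN : N ≠ 0) {v : ℕ} (hvN : v ∣ N) :
    ∃ x : V ≃ₗ[F] V, x ∈ O Q ∧ orderOf x = v ∧ y * x * y⁻¹ = x⁻¹ ∧ g * x = x * g := by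
  obtain ⟨hgO, -, -⟩ := hg
  refine ⟨g ^ (N / v), (O Q).pow_mem hgO _, ?_, ?_, ?_⟩
  · rw [← ho] at hvN hN ⊢
    exact orderOf_pow_orderOf_div hN hvN
  · rw [← conj_pow, hyg, inv_pow]
  · rw [← pow_succ', ← pow_succ]

theorem cls_mul {c d : ℤ} (hc : c = 1 ∨ c = -1) (hd : d = 1 ∨ d = -1) : c * d = 1 ∨ c * d = -1 := by
  rcases hc with rfl | rfl <;> rcases hd with rfl | rfl <;> norm_num

/-- **blocks** : complement of dimension at least two -/
theorem rq_block (h2 : (2 : F) ≠ 0) {d N v : ℕ} (h : TT F d N) (hN : N ≠ 0) (hv : Odd v) (hvN : v ∣ N)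
    {V : Type*} [AddCommGroup V] [Module F V] [FiniteDimensional F V] [Finite V] {Q : QuadraticForm F V}
    (hQ : Nondeg Q) (hd : 2 * d + 2 ≤ finrank F V) : RQ Q v := by
  obtain ⟨Q₁, g, y, hQ₁, hg, ho, hy, hyg⟩ := h
  obtain ⟨x, hxO, hxv, hyx, hgx⟩ := elt_of_gen hg ho hyg hN hvN
  obtain ⟨m, hm⟩ : ∃ m, finrank F V = 2 * d + (m + 1 + 1) := ⟨finrank F V - 2 * d - 2, by omega⟩
  obtain ⟨Q₀, hQ₀, hdc₀⟩ := exists_form h2 (cls_mul (dc_cases hQ) (dc_cases hQ₁)) (m + 1)
  have hnd := nondeg_prod hQ₁ hQ₀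
  have hdc1 : dc Q₁ * dc Q₁ = 1 := by
    rcases dc_cases hQ₁ with h | h <;> rw [h] <;> norm_num
  obtain ⟨e, he⟩ := exists_iso h2 hnd hQ (by rw [hm]; simp) (by
    rw [dc_prod, hdc₀, mul_comm (dc Q), ← mul_assoc, hdc1, one_mul])
  refine RQ.cj ?_ he
  obtain ⟨⟨w, hw⟩, w', hw', hw''⟩ := Cfsg.Agent.ClassicalGeometry.Universal.exists_isSquare_and_not h2 Q₀
    (nondeg_bilin hQ₀) (by simp)
  have hw0 : Q₀ w ≠ 0 := by rw [hw]; exact one_ne_zero
  classical
  refine rq_adjust hnd (x := pr x 1) (y := pr y 1) hv (pr_mem_O hxO (O Q₀).one_mem)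
    (pr_mem_O hy (O Q₀).one_mem) (by rw [orderOf_pr, hxv, orderOf_one, Nat.lcm_one_right]) ?_ (Or.inr ?_) ?_
  · have h1 := congrArg (fun t => pr t (1 : (Fin (m + 1 + 1) → F) ≃ₗ[F] (Fin (m + 1 + 1) → F))) hyx
    exact h1
  · refine ⟨pr 1 (refl Q₀ w hw0), pr_mem_O (O Q₁).one_mem (refl_mem_O hw0), ?_, ?_⟩
    · rw [det_pr, map_one, one_mul, det_refl]
    · rw [← pr_mul, ← pr_mul, one_mul, mul_one, one_mul, mul_one]
  · refine ⟨pr 1 (refl Q₀ w hw0 * refl Q₀ w' hw'), ?_, ?_⟩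
    · have h1 : El Q₀ (-1) (refl Q₀ w hw0 * refl Q₀ w' hw') := by
        refine ⟨(O Q₀).mul_mem (refl_mem_O hw0) (refl_mem_O hw'), ?_, ?_⟩
        · rw [map_mul, det_refl, det_refl, neg_mul_neg, one_mul]
        · have h3 : (⟨refl Q₀ w hw0 * refl Q₀ w' hw', (O Q₀).mul_mem (refl_mem_O hw0) (refl_mem_O hw')⟩ : O Q₀) =
              ⟨refl Q₀ w hw0, refl_mem_O hw0⟩ * ⟨refl Q₀ w' hw', refl_mem_O hw'⟩ := rfl
          rw [h3, map_mul, spin_refl h2, spin_refl h2, if_pos (by rw [hw]; exact IsSquare.one), if_neg hw'', mul_one]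
      have h3 := El.pr h2 hQ₁ hQ₀ (El.one Q₁) h1
      rwa [one_mul] at h3
    · rw [← pr_mul, ← pr_mul, one_mul, mul_one, one_mul, mul_one]

/-- complement of dimension one -/
theorem rq_odd (h2 : (2 : F) ≠ 0) {d N v : ℕ} (h : TT F d N) (hN : N ≠ 0) (hv : Odd v) (hvN : v ∣ N)
    {V : Type*} [AddCommGroup V] [Module F V] [FiniteDimensional F V] [Finite V] {Q : QuadraticForm F V}
    (hQ : Nondeg Q) (hd : finrank F V = 2 * d + 1) : RQ Q v := by
  obtain ⟨Q₁, g, y, hQ₁, hg, ho, hy, hyg⟩ := h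
  obtain ⟨x, hxO, hxv, hyx, hgx⟩ := elt_of_gen hg ho hyg hN hvN
  obtain ⟨Q₀, hQ₀, hdc₀⟩ := exists_form h2 (cls_mul (dc_cases hQ) (dc_cases hQ₁)) 0
  have hnd := nondeg_prod hQ₁ hQ₀
  have hdc1 : dc Q₁ * dc Q₁ = 1 := by
    rcases dc_cases hQ₁ with h | h <;> rw [h] <;> norm_num
  obtain ⟨e, he⟩ := exists_iso h2 hnd hQ (by rw [hd]; simp) (by
    rw [dc_prod, hdc₀, mul_comm (dc Q), ← mul_assoc, hdc1, one_mul])
  refine RQ.cj ?_ he
  refine rq_adjust hnd (x := pr x 1) (y := pr y 1) hv (pr_mem_O hxO (O Q₀).one_mem)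
    (pr_mem_O hy (O Q₀).one_mem) (by rw [orderOf_pr, hxv, orderOf_one, Nat.lcm_one_right]) ?_ (Or.inr ?_) ?_
  · have h1 := congrArg (fun t => pr t (1 : (Fin (0 + 1) → F) ≃ₗ[F] (Fin (0 + 1) → F))) hyx
    exact h1
  · refine ⟨pr 1 (LinearEquiv.neg F), pr_mem_O (O Q₁).one_mem (neg_mem_O Q₀), ?_, ?_⟩
    · rw [det_pr, map_one, one_mul]
      apply Units.ext
      rw [LinearEquiv.coe_det]
      have h3 : ((LinearEquiv.neg F : (Fin (0 + 1) → F) ≃ₗ[F] (Fin (0 + 1) → F)) :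
          (Fin (0 + 1) → F) →ₗ[F] (Fin (0 + 1) → F)) = (-1 : F) • LinearMap.id := by
        ext x
        simp
      rw [h3, LinearMap.det_smul, LinearMap.det_id]
      simp
    · rw [← pr_mul, ← pr_mul, one_mul, mul_one, one_mul, mul_one]
  · refine ⟨pr g 1, ?_, ?_⟩
    · have h3 := El.pr h2 hQ₁ hQ₀ hg (El.one Q₀)
      rwa [mul_one] at h3
    · rw [← pr_mul, ← pr_mul, hgx]

/-- minus type, `d` even -/
theorem rq_minus {d N v : ℕ} (h : TM F d N) (hde : Even d) (hN : N ≠ 0) (hv : Odd v) (hvN : v ∣ N)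
    {V : Type*} [AddCommGroup V] [Module F V] [FiniteDimensional F V] [Finite V] {Q : QuadraticForm F V}
    (hQ : Nondeg Q) (hP : ¬ Cfsg.Agent.H955.IsPlus Q) (hd : finrank F V = 2 * d) (hd0 : d ≠ 0) : RQ Q v := by
  obtain ⟨Q₁, g, y, hQ₁, hP₁, hg, ho, hy, hdet, hyg⟩ := h
  obtain ⟨x, hxO, hxv, hyx, hgx⟩ := elt_of_gen hg ho hyg hN hvN
  obtain ⟨m, rfl⟩ : ∃ m, d = m + 1 := ⟨d - 1, by omega⟩
  obtain ⟨a, b, hab⟩ := Cfsg.Agent.H955.exists_aniso_coeff F
  obtain ⟨e₁, he₁⟩ := Cfsg.Agent.H955.exists_minus_equiv hab m Q₁ hQ₁ (by simp) hP₁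
  obtain ⟨e₂, he₂⟩ := Cfsg.Agent.H955.exists_minus_equiv hab m Q hQ hd hP
  refine RQ.cj (e := e₁.trans e₂.symm) (Q := Q₁) ?_ ?_
  · exact rq_adjust hQ₁ hv hxO hy hxv hyx (Or.inl (by rw [hdet, hde.neg_one_pow])) ⟨g, hg, hgx⟩
  · intro w
    show Q (e₂.symm (e₁ w)) = Q₁ w
    rw [← he₂, LinearEquiv.apply_symm_apply, he₁]

variable {ι : Type} [Fintype ι] [DecidableEq ι]

/-- **`v ∣ q ^ d - 1` or `v ∣ q ^ d + 1`, and the dimension is at least `2 d + 1`.** -/
theorem realP_omega {F : Type*} [Field F] [Fintype F] (h2 : (2 : F) ≠ 0) {Q : QuadraticForm F (ι → F)} (hQ : Nondeg Q)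
    (h5 : 5 ≤ Fintype.card ι) {d v : ℕ} (hd : d ≠ 0) (hv : Odd v)
    (hvd : v ∣ Fintype.card F ^ d - 1 ∨ v ∣ Fintype.card F ^ d + 1) (hdim : 2 * d + 1 ≤ Fintype.card ι) :
    RealP (Cfsg.POmega F ⇑Q) v := by
  classical
  have hq : 1 < Fintype.card F ^ d := Nat.one_lt_pow hd Fintype.one_lt_card
  have key : ∀ N : ℕ, N ≠ 0 → v ∣ N → TT F d N → RealP (Cfsg.POmega F ⇑Q) v := by
    intro N hN hvN h
    refine realP_pomega h2 hQ h5 hv ?_
    rcases Nat.lt_or_ge (2 * d + 1) (Fintype.card ι) with h1 | h1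
    · exact rq_block h2 h hN hv hvN hQ (by rw [finrank_fintype_fun_eq_card]; omega)
    · exact rq_odd h2 h hN hv hvN hQ (by rw [finrank_fintype_fun_eq_card]; omega)
  rcases hvd with h | h
  · exact key _ (by omega) h (tt_split h2 hd)
  · exact key _ (by omega) h (tm_nonsplit h2 hd).tt

/-- **minus type in dimension `2 d`, `d` even, `v ∣ q ^ d + 1`.** -/
theorem realP_omega_minus {F : Type*} [Field F] [Fintype F] (h2 : (2 : F) ≠ 0) {Q : QuadraticForm F (ι → F)}
    (hQ : Nondeg Q) (hP : ¬ Cfsg.Agent.H955.IsPlus Q) (h5 : 5 ≤ Fintype.card ι) {d v : ℕ} (hde : Even d) (hv : Odd v)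
    (hvd : v ∣ Fintype.card F ^ d + 1) (hdim : Fintype.card ι = 2 * d) : RealP (Cfsg.POmega F ⇑Q) v := by
  classical
  have hd : d ≠ 0 := by rintro rfl; omega
  exact realP_pomega h2 hQ h5 hv (rq_minus (tm_nonsplit h2 hd) hde (by omega) hv hvd hQ hP
    (by rw [finrank_fintype_fun_eq_card, hdim]) hd)

end Final

section Names

variable {F : Type} [Field F] [Fintype F]

theorem not_isPlus_minusForm (m : ℕ) {a b : F}
    (hab : ∀ z₁ z₂ : F, z₁ ^ 2 + a * z₁ * z₂ + b * z₂ ^ 2 = 0 → z₁ = 0 ∧ z₂ = 0) :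
    ¬ Cfsg.Agent.H955.IsPlus (minusForm m F a b) := by
  intro hP
  have h1 := Cfsg.Agent.H955.card_minus_one m hab
  have h2 := Cfsg.Agent.H955.card_eq_one_of_isPlus (nondeg_minusForm m F a b hab) (m := m + 1) (by simp; ring) hP
  have h3 : 0 < Nat.card F ^ (m + 1) := pow_pos Nat.card_pos _
  rw [coe_minusForm] at h2
  rw [LieClassical.QuadForms.coe_minusForm] at h1
  rw [h1] at h2
  have h4 : ∀ A B : ℕ, 0 < B → A + B + B = A → False := by intro A B hB h; omega
  exact h4 _ _ h3 h2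

/-- `Ω_{2m+1}(q)` : `v` odd, `v ∣ q ^ d ± 1`, `d ≤ m` -/
theorem realP_oodd (h2 : (2 : F) ≠ 0) {m d v : ℕ} (hm : 2 ≤ m) (hd : d ≠ 0) (hdm : d ≤ m) (hv : Odd v)
    (hvd : v ∣ Fintype.card F ^ d - 1 ∨ v ∣ Fintype.card F ^ d + 1) : RealP (Cfsg.POmega F (Cfsg.quadFormOdd m F)) v := by
  rw [← coe_oddForm]
  refine realP_omega h2 (nondeg_oddForm m F h2) ?_ hd hv hvd ?_
  · simp only [Fintype.card_sum, Fintype.card_unit, Fintype.card_fin]; omega
  · simp only [Fintype.card_sum, Fintype.card_unit, Fintype.card_fin]; omega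

/-- `PΩ⁺_{2m}(q)` : `v` odd, `v ∣ q ^ d ± 1`, `d < m` -/
theorem realP_oplus (h2 : (2 : F) ≠ 0) {m d v : ℕ} (hm : 3 ≤ m) (hd : d ≠ 0) (hdm : d < m) (hv : Odd v)
    (hvd : v ∣ Fintype.card F ^ d - 1 ∨ v ∣ Fintype.card F ^ d + 1) :
    RealP (Cfsg.POmega F (Cfsg.quadFormPlus m F)) v := by
  rw [← coe_plusForm]
  refine realP_omega h2 (nondeg_plusForm m F) ?_ hd hv hvd ?_
  · simp only [Fintype.card_sum, Fintype.card_fin]; omega
  · simp only [Fintype.card_sum, Fintype.card_fin]; omega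

/-- `PΩ⁻_{2m}(q)` : `v` odd, `v ∣ q ^ d ± 1`, `d < m` -/
theorem realP_ominus (h2 : (2 : F) ≠ 0) {m d v : ℕ} {a b : F}
    (hab : ∀ z₁ z₂ : F, z₁ ^ 2 + a * z₁ * z₂ + b * z₂ ^ 2 = 0 → z₁ = 0 ∧ z₂ = 0) (hm : 3 ≤ m) (hd : d ≠ 0)
    (hdm : d < m) (hv : Odd v) (hvd : v ∣ Fintype.card F ^ d - 1 ∨ v ∣ Fintype.card F ^ d + 1) :
    RealP (Cfsg.POmega F (Cfsg.quadFormMinus (m - 1) F a b)) v := by
  rw [← coe_minusForm]
  refine realP_omega h2 (nondeg_minusForm (m - 1) F a b hab) ?_ hd hv hvd ?_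
  · simp only [Fintype.card_sum, Fintype.card_fin]; omega
  · simp only [Fintype.card_sum, Fintype.card_fin]; omega

/-- `PΩ⁻_{2m}(q)`, `m` even : `v` odd, `v ∣ q ^ m + 1` -/
theorem realP_ominus_even (h2 : (2 : F) ≠ 0) {m v : ℕ} {a b : F}
    (hab : ∀ z₁ z₂ : F, z₁ ^ 2 + a * z₁ * z₂ + b * z₂ ^ 2 = 0 → z₁ = 0 ∧ z₂ = 0) (hm : 3 ≤ m) (hme : Even m)
    (hv : Odd v) (hvd : v ∣ Fintype.card F ^ m + 1) :
    RealP (Cfsg.POmega F (Cfsg.quadFormMinus (m - 1) F a b)) v := by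
  rw [← coe_minusForm]
  refine realP_omega_minus h2 (nondeg_minusForm (m - 1) F a b hab) ?_ ?_ hme hv hvd ?_
  · exact not_isPlus_minusForm (m - 1) hab
  · simp only [Fintype.card_sum, Fintype.card_fin]; omega
  · simp only [Fintype.card_sum, Fintype.card_fin]; omega

end Names

end Cfsg.Agent.H453.OddM
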