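import Cfsg.Agent.H453.OddM.Tools
import Cfsg.Agent.H436.Names

/-!
# Assembly of S4785 from the rows (TEAM ODDM)
-/

set_option autoImplicit false
open Cfsg

namespace Cfsg.Agent.H453.OddM

open Cfsg.Agent.OrdDiv Cfsg.Agent.H436

universe u

/-- the row for the name `g` -/
def RowN (g : Grp) : Prop :=
  ∀ (T : Type u) [Group T] [Finite T] [IsSimpleGroup T], IsNamed g T → Row8 T

/-- all rows -/
structure Rows : Prop where
  alt : ∀ n, RowN.{u} (.alt n)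
  psl2 : ∀ n q, 2 ∣ q → RowN.{u} (.psl n q)
  psp2 : ∀ n q, 2 ∣ q → RowN.{u} (.psp n q)
  psu2 : ∀ n q, 2 ∣ q → RowN.{u} (.psu n q)
  oplus2 : ∀ n q, 2 ∣ q → RowN.{u} (.oplus n q)
  ominus2 : ∀ n q, 2 ∣ q → RowN.{u} (.ominus n q)
  g22 : ∀ q, 2 ∣ q → RowN.{u} (.g2 q)
  f42 : ∀ q, 2 ∣ q → RowN.{u} (.f4 q)
  e62 : ∀ q, 2 ∣ q → RowN.{u} (.e6 q)
  e72 : ∀ q, 2 ∣ q → RowN.{u} (.e7 q)
  e82 : ∀ q, 2 ∣ q → RowN.{u} (.e8 q)
  te62 : ∀ q, 2 ∣ q → RowN.{u} (.te6 q)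
  td42 : ∀ q, 2 ∣ q → RowN.{u} (.td4 q)
  sz : ∀ q, RowN.{u} (.sz q)
  tf4 : ∀ q, RowN.{u} (.tf4 q)
  psl : ∀ n q, ¬ 2 ∣ q → RowN.{u} (.psl n q)
  psp : ∀ n q, ¬ 2 ∣ q → RowN.{u} (.psp n q)
  psu : ∀ n q, ¬ 2 ∣ q → RowN.{u} (.psu n q)
  oodd : ∀ n q, RowN.{u} (.oodd n q)
  oplus : ∀ n q, ¬ 2 ∣ q → RowN.{u} (.oplus n q)
  ominus : ∀ n q, ¬ 2 ∣ q → RowN.{u} (.ominus n q)
  g2 : ∀ q, ¬ 2 ∣ q → RowN.{u} (.g2 q)
  f4 : ∀ q, ¬ 2 ∣ q → RowN.{u} (.f4 q)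
  e6 : ∀ q, ¬ 2 ∣ q → RowN.{u} (.e6 q)
  e7 : ∀ q, ¬ 2 ∣ q → RowN.{u} (.e7 q)
  e8 : ∀ q, ¬ 2 ∣ q → RowN.{u} (.e8 q)
  te6 : ∀ q, ¬ 2 ∣ q → RowN.{u} (.te6 q)
  td4 : ∀ q, ¬ 2 ∣ q → RowN.{u} (.td4 q)
  ree : ∀ q, RowN.{u} (.ree q)
  tits : RowN.{u} .tits
  m11 : RowN.{u} .m11
  m12 : RowN.{u} .m12
  m22 : RowN.{u} .m22
  m23 : RowN.{u} .m23
  m24 : RowN.{u} .m24
  j1 : RowN.{u} .j1
  j2 : RowN.{u} .j2
  j3 : RowN.{u} .j3
  j4 : RowN.{u} .j4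
  co1 : RowN.{u} .co1
  co2 : RowN.{u} .co2
  co3 : RowN.{u} .co3
  mcl : RowN.{u} .mcl
  hs : RowN.{u} .hs
  suz : RowN.{u} .suz
  he : RowN.{u} .he
  ru : RowN.{u} .ru
  on : RowN.{u} .on
  ly : RowN.{u} .ly
  fi22 : RowN.{u} .fi22
  fi23 : RowN.{u} .fi23
  fi24 : RowN.{u} .fi24
  hn : RowN.{u} .hn
  th : RowN.{u} .th
  b : RowN.{u} .b
  m : RowN.{u} .m

theorem Rows.all (R : Rows.{u}) (g : Grp) : RowN.{u} g := by
  cases g with
  | alt n => exact R.alt n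
  | psl n q => exact if h : 2 ∣ q then R.psl2 n q h else R.psl n q h
  | psp n q => exact if h : 2 ∣ q then R.psp2 n q h else R.psp n q h
  | psu n q => exact if h : 2 ∣ q then R.psu2 n q h else R.psu n q h
  | oodd n q => exact R.oodd n q
  | oplus n q => exact if h : 2 ∣ q then R.oplus2 n q h else R.oplus n q h
  | ominus n q => exact if h : 2 ∣ q then R.ominus2 n q h else R.ominus n q h
  | g2 q => exact if h : 2 ∣ q then R.g22 q h else R.g2 q h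
  | f4 q => exact if h : 2 ∣ q then R.f42 q h else R.f4 q h
  | e6 q => exact if h : 2 ∣ q then R.e62 q h else R.e6 q h
  | e7 q => exact if h : 2 ∣ q then R.e72 q h else R.e7 q h
  | e8 q => exact if h : 2 ∣ q then R.e82 q h else R.e8 q h
  | te6 q => exact if h : 2 ∣ q then R.te62 q h else R.te6 q h
  | td4 q => exact if h : 2 ∣ q then R.td42 q h else R.td4 q h
  | sz q => exact R.sz q
  | ree q => exact R.ree q
  | tf4 q => exact R.tf4 q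
  | tits => exact R.tits
  | m11 => exact R.m11
  | m12 => exact R.m12
  | m22 => exact R.m22
  | m23 => exact R.m23
  | m24 => exact R.m24
  | j1 => exact R.j1
  | j2 => exact R.j2
  | j3 => exact R.j3
  | j4 => exact R.j4
  | co1 => exact R.co1
  | co2 => exact R.co2
  | co3 => exact R.co3
  | mcl => exact R.mcl
  | hs => exact R.hs
  | suz => exact R.suz
  | he => exact R.he
  | ru => exact R.ru
  | on => exact R.on
  | ly => exact R.ly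
  | fi22 => exact R.fi22
  | fi23 => exact R.fi23
  | fi24 => exact R.fi24
  | hn => exact R.hn
  | th => exact R.th
  | b => exact R.b
  | m => exact R.m

/-- S4785 from the rows and the classification -/
theorem s4785_of (R : Rows.{u}) (hname : ∀ (T : Type u) [Group T] [Finite T] [IsSimpleGroup T],
      (¬ ∀ a b : T, a * b = b * a) → ∃ g, IsNamed g T)
    {G : Type u} [Group G] [Fintype G] (hO : ∀ N : Subgroup G, N.Normal → Odd N.index → N = ⊤) (H : Subgroup G)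
    (hH : H ≠ ⊤) : ∃ χ : IrrCharacter G, (χ : G → ℂ) ≠ (fun _ => 1) ∧
      (∀ g : G, (starRingEnd ℂ) ((χ : G → ℂ) g) = (χ : G → ℂ) g) ∧
      ∃ m : ℕ, Odd m ∧ classInner (indFun H (fun _ : H => (1 : ℂ))) (χ : G → ℂ) = m :=
  s4785_of_rows8 (fun T _ _ _ hna => by
    obtain ⟨g, hg⟩ := hname T hna
    exact R.all g T hg) hO H hH

end Cfsg.Agent.H453.OddM
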