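import Cfsg.Agent.H453.OddM.GeoPM
import Cfsg.Agent.H907.Odm.Plane

/-!
# S4785: the rows `PΩ^±_{2m}(q)`, `m` and `q` odd
-/

set_option autoImplicit false

namespace Cfsg.Agent.H453.OddM

open Module QuadraticMap Cfsg Cfsg.Geo Cfsg.Agent.OrdDiv Cfsg.Agent.H436 Cfsg.Agent.H660.OddM

universe u

theorem geoP {m : ℕ} (hm : 3 ≤ m) (ho : Odd m) : GeoP m :=
  geoP_of hm ho fun _ _ _ hodd _ _ hW hnd hM => H907.Odm.not_cov_plane_plus (two_ne hodd) hm ho hW hnd hM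

theorem geoM {m : ℕ} (hm : 3 ≤ m) (ho : Odd m) : GeoM m :=
  geoM_of hm ho fun _ _ _ hodd _ _ hab _ _ hW hnd hM =>
    H907.Odm.not_cov_plane_minus (two_ne hodd) hm ho hab hW hnd hM

/-- **The row `PΩ⁺_{2n}(q)`, `n` and `q` odd.** -/
theorem row_oplus_odd (tab : OrderTable.{0}) (hK : ∀ (X : Type) [Group X] [Finite X] [IsSimpleGroup X],
    Cfsg.IsKnownSimple' X) (n q : ℕ) (ho : Odd n) (h2 : ¬ 2 ∣ q) : RowN.{u} (.oplus n q) := by
  intro T _ _ _ h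
  have hn : 4 ≤ n := h.cond.1
  have hn5 : 5 ≤ n := by obtain ⟨k, rfl⟩ := ho; omega
  exact row_oplus_odd_of (geoP (by omega) ho) (resP tab hK hn5 ho) ho h2 T h

/-- **The row `PΩ⁻_{2n}(q)`, `n` and `q` odd.** -/
theorem row_ominus_odd (tab : OrderTable.{0}) (hK : ∀ (X : Type) [Group X] [Finite X] [IsSimpleGroup X],
    Cfsg.IsKnownSimple' X) (n q : ℕ) (ho : Odd n) (h2 : ¬ 2 ∣ q) : RowN.{u} (.ominus n q) := by
  intro T _ _ _ h
  have hn : 4 ≤ n := h.cond.1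
  have hn5 : 5 ≤ n := by obtain ⟨k, rfl⟩ := ho; omega
  exact row_ominus_odd_of (geoM (by omega) ho) (resM tab hK hn5 ho) ho h2 T h

end Cfsg.Agent.H453.OddM
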