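import Cfsg.Agent.H683.OddM.GeoLR
import Cfsg.Agent.H746.OddM.PslTwo
import Cfsg.Agent.H746.OddM.ThreeL
import Cfsg.Agent.H878.OddM.L4
import Cfsg.Agent.H67.OdmFin
import Cfsg.Agent.H131.OddP1
import Cfsg.Agent.H453.OddM.Asm

/-!
# S4785: the rows `PSL_n(q)`, `q` odd
-/

set_option autoImplicit false
open Cfsg

namespace Cfsg.Agent.H453.OddM

open Cfsg.Agent.OrdDiv Cfsg.Agent.H436

universe u

/-- **`PSL_4(q)`, `q` odd** -/
theorem rowC_psl_four {F : Type} [Field F] [Fintype F] (hodd : Odd (Fintype.card F)) :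
    RowC (Matrix.ProjectiveSpecialLinearGroup (Fin 4) F) := by
  intro M hM hc
  rcases H683.OddM.geo_psl' (by norm_num) hodd hM hc with h | ⟨h, -⟩
  · exact H878.OddM.L4.l4_res (H683.OddM.two_ne_zero_of_odd hodd) hM h hc
  · exact absurd h (by decide)

/-- **`PSL_n(q)`, `n ≥ 5`, `q` odd** -/
theorem row_psl_five {F : Type} [Field F] [Fintype F] {n : ℕ} (hn : 5 ≤ n) (hodd : Odd (Fintype.card F)) :
    Row (Matrix.ProjectiveSpecialLinearGroup (Fin n) F) := by
  intro R hR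
  by_contra hne
  have hfin : Finite (Matrix.ProjectiveSpecialLinearGroup (Fin n) F) := Quotient.finite _
  obtain ⟨M, hM, hRM⟩ := (eq_top_or_exists_le_coatom R).resolve_left hne
  rcases H683.OddM.geo_psl' (by omega) hodd hM (hR.cov.mono hRM) with h | ⟨hno, W, hW, hpre⟩
  · obtain ⟨P, hP, -⟩ := h
    exact H67.Odm.no_res (H683.OddM.two_ne_zero_of_odd hodd) (Or.inr hn) hR hRM hM.1 hP
  · refine H131.OddP1.par_psl hno hn (fun h2 => ?_) hR hW ?_
    · exact Nat.not_even_iff_odd.2 hodd (even_iff_two_dvd.2 h2)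
    · have h1 : H304.PslT.pre R ≤ H304.PslT.pre M := Subgroup.map_mono (Subgroup.comap_mono hRM)
      exact h1.trans (hpre.le.trans inf_le_left)

/-- **The rows `PSL_n(q)`, `q` odd.** -/
theorem row_psl (n q : ℕ) (hq : ¬ 2 ∣ q) : RowN.{u} (.psl n q) := by
  intro T _ _ _ hT
  obtain ⟨F, _, _, hF, ⟨e⟩⟩ := hT.real
  obtain ⟨hn, h3, hpp⟩ := hT.cond
  have hodd : Odd (Fintype.card F) := by
    rw [← Nat.not_even_iff_odd, even_iff_two_dvd, hF]; exact hq
  rcases hn.eq_or_lt with rfl | hn3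
  · exact H746.OddM.row_psl_two q hq T hT
  rcases Nat.eq_or_lt_of_le hn3 with rfl | hn4
  · exact H746.OddM.ThreeL.row_psl_three q hq T hT
  rcases Nat.eq_or_lt_of_le hn4 with rfl | hn5
  · have hfin : Finite (Matrix.ProjectiveSpecialLinearGroup (Fin 4) F) := Quotient.finite _
    exact Row8.congr e.symm (Row.row8 (RowC.row (rowC_psl_four hodd)))
  · exact Row8.congr e.symm (Row.row8 (row_psl_five hn5 hodd))

end Cfsg.Agent.H453.OddM
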