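import Cfsg.Agent.H453.OddM.OrthPt
import Cfsg.Agent.H660.OddM.RowDo
import Cfsg.Agent.H144.Odm.CovRes
import Cfsg.Agent.H210.DoRes.Main

/-!
# S4785: the rows `PΩ^±_{2m}(q)`, `m` and `q` odd
-/

set_option autoImplicit false

namespace Cfsg.Agent.H453.OddM

open Module QuadraticMap Cfsg Cfsg.Geo Cfsg.Agent.OrdDiv Cfsg.Agent.H436 Cfsg.Agent.H660.OddM
open Cfsg.Agent.LieClassical.OmegaReindex
open Cfsg.Agent.H884.El (pre)

universe u

section

variable {ι : Type} [Fintype ι] [DecidableEq ι] {F : Type} [Field F] {Q : QuadraticForm F (ι → F)}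

/-- fixed lines are nonsingular -/
theorem line_of_odd [Finite F] (h2 : (2 : F) ≠ 0) (hQ : (polarBilin Q).Nondegenerate) (hι : 4 ≤ Fintype.card ι)
    {R : Subgroup (POmega F ⇑Q)} (hR : Odd R.index) {W : Submodule F (ι → F)} (hst : pre (⇑Q) R ≤ subspaceStabilizer W)
    (hW : finrank F W = 1) : ∃ v, Q v ≠ 0 ∧ W = Submodule.span F {v} := by
  obtain ⟨⟨v, hv⟩, hv0, hsp⟩ := finrank_eq_one_iff'.1 hW
  have hWv : W = Submodule.span F {v} := by
    apply le_antisymm
    · intro x hx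
      obtain ⟨c, hc⟩ := hsp ⟨x, hx⟩
      exact Submodule.mem_span_singleton.2 ⟨c, congrArg Subtype.val hc⟩
    · rw [Submodule.span_singleton_le_iff_mem]
      exact hv
  refine ⟨v, fun h0 => hv0 (Subtype.ext ?_), hWv⟩
  refine OP.nondeg_of_odd h2 hQ hι hR hst hv fun x hx => ?_
  rw [hWv] at hx
  obtain ⟨c, rfl⟩ := Submodule.mem_span_singleton.1 hx
  rw [polar_smul_right, polar_self, h0, nsmul_zero, smul_zero]

/-- no nondegenerate plane is fixed -/
def PlaneQ {ι : Type} [Fintype ι] [DecidableEq ι] {F : Type} [Field F] (q : (ι → F) → F) : Prop :=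
  ∀ (M : Subgroup (POmega F q)) (W : Submodule F (ι → F)), finrank F W = 2 →
    (∀ w ∈ W, (∀ x ∈ W, polar q w x = 0) → w = 0) → pre q M ≤ subspaceStabilizer W → ¬ Cov (POmega F q) M

theorem geo_core [Finite F] (h2 : (2 : F) ≠ 0) (hQ : (polarBilin Q).Nondegenerate) (hι : 4 ≤ Fintype.card ι)
    {q : (ι → F) → F} (hq : ⇑Q = q)
    (hl : ∀ (M : Subgroup (POmega F q)) (v : ι → F), q v ≠ 0 → pre q M ≤ subspaceStabilizer (Submodule.span F {v}) →
      ¬ Cov (POmega F q) M) (hp : PlaneQ q) {M : Subgroup (POmega F q)} (hc : Cov (POmega F q) M)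
    {W : Submodule F (ι → F)} (hst : pre q M ≤ subspaceStabilizer W) (hd : finrank F W = 1 ∨ finrank F W = 2) :
    False := by
  subst hq
  rcases hd with hd | hd
  · obtain ⟨v, hv, rfl⟩ := line_of_odd h2 hQ hι hc.1 hst hd
    exact hl M v hv hst hc
  · exact hp M W hd (fun w hw hrad => OP.nondeg_of_odd h2 hQ hι hc.1 hst hw hrad) hst hc

end

theorem geoP_of {m : ℕ} (hm : 3 ≤ m) (ho : Odd m)
    (hp : ∀ (F : Type) [Field F] [Fintype F], Odd (Fintype.card F) → PlaneQ (quadFormPlus m F)) : GeoP m := by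
  intro F _ _ hodd M hc W hst hd
  exact geo_core (two_ne hodd) quadPlus_nondegenerate (by simp; omega) (coe_quadPlus m F)
    (fun M v hv h => H907.Odm.not_cov_plus (two_ne hodd) hm ho hv h) (hp F hodd) hc hst hd

theorem geoM_of {m : ℕ} (hm : 3 ≤ m) (ho : Odd m)
    (hp : ∀ (F : Type) [Field F] [Fintype F], Odd (Fintype.card F) →
      ∀ a b : F, (∀ z₁ z₂ : F, z₁ ^ 2 + a * z₁ * z₂ + b * z₂ ^ 2 = 0 → z₁ = 0 ∧ z₂ = 0) →
        PlaneQ (quadFormMinus (m - 1) F a b)) : GeoM m := by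
  intro F _ _ hodd a b hab M hc W hst hd
  exact geo_core (two_ne hodd) (quadMinus_nondegenerate hab) (by simp; omega) (coe_quadMinus (m - 1) F a b)
    (fun M v hv h => H907.Odm.not_cov_minus (two_ne hodd) hm ho hab hv h) (hp F hodd a b hab) hc hst hd

theorem resP {m : ℕ} (tab : OrderTable.{0}) (hK : ∀ (X : Type) [Group X] [Finite X] [IsSimpleGroup X],
    Cfsg.IsKnownSimple' X) (hm : 5 ≤ m) (ho : Odd m) : ResP m := by
  intro F _ _ hodd M hM hc P hP
  obtain ⟨S, _, ⟨e⟩, hS⟩ := H144.Odm.res_plus tab hK hm (Nat.odd_iff.1 ho) hodd hM hc hP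
  exact H210.DoRes.do_res (two_ne hodd) hP (n := m - 1) (q := Fintype.card F) (by omega)
    (fun h => Nat.not_even_iff_odd.2 hodd (even_iff_two_dvd.2 h)) (by simp; omega) e hS

theorem resM {m : ℕ} (tab : OrderTable.{0}) (hK : ∀ (X : Type) [Group X] [Finite X] [IsSimpleGroup X],
    Cfsg.IsKnownSimple' X) (hm : 5 ≤ m) (ho : Odd m) : ResM m := by
  intro F _ _ hodd a b hab M hM hc P hP
  obtain ⟨S, _, ⟨e⟩, hS⟩ := H144.Odm.res_minus tab hK hab hm (Nat.odd_iff.1 ho) hodd hM hc hP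
  exact H210.DoRes.do_res (two_ne hodd) hP (n := m - 1) (q := Fintype.card F) (by omega)
    (fun h => Nat.not_even_iff_odd.2 hodd (even_iff_two_dvd.2 h)) (by simp; omega) e hS

end Cfsg.Agent.H453.OddM
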