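import Cfsg.Agent.H453.OddM.Reduce
import Cfsg.Agent.SmallSimple.DetKernel

/-!
# Perfect groups: the number of fixed points of an involution modulo `8` (TEAM ODDM, S4785)
-/

set_option autoImplicit false
open Cfsg
open scoped ComplexConjugate

namespace Cfsg.Agent.H453.OddM

open Cfsg.Agent.Characters.Core Cfsg.Agent.OddOrderCharacters.IndRes Cfsg.Agent.SmallSimple.DetKernel

universe u v w

/-- A representation of a perfect group has determinant one. -/
theorem det_eq_one {G : Type*} [Group G] (hperf : commutator G = ⊤) {V : Type*}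
    [AddCommGroup V] [Module ℂ V] (ρ : Representation ℂ G V) (g : G) :
    LinearMap.det (ρ g) = 1 := by
  let f : G →* ℂ := (LinearMap.det : (V →ₗ[ℂ] V) →* ℂ).comp ρ
  have h1 : g ∈ commutator G := by rw [hperf]; trivial
  have h2 : commutator G ≤ f.toHomUnits.ker := Abelianization.commutator_subset_ker _
  have h3 := congrArg Units.val ((MonoidHom.mem_ker).mp (h2 h1))
  simpa [f] using h3

theorem sum_signs {ι : Type*} [Fintype ι] (c : ι → ℂ) (hc : ∀ i, c i ^ 2 = 1) (hp : ∏ i, c i = 1) :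
    ∃ k : ℕ, ∑ i, c i = Fintype.card ι - 4 * k := by
  classical
  have h1 : ∀ i, c i = 1 ∨ c i = -1 := fun i => sq_eq_one_iff.mp (hc i)
  have h2 : ∀ i, c i = 1 - 2 * (if c i = -1 then 1 else 0) := by
    intro i
    rcases h1 i with h | h
    · rw [h, if_neg (by norm_num)]; ring
    · rw [h, if_pos rfl]; ring
  have h3 : ∏ i, c i = (-1) ^ (Finset.univ.filter fun i => c i = -1).card := by
    rw [← Finset.prod_const, ← Finset.prod_filter_mul_prod_filter_not Finset.univ (fun i => c i = -1) c,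
      Finset.prod_congr rfl (g := fun _ => (-1 : ℂ)) (fun i hi => (Finset.mem_filter.1 hi).2)]
    have h4 : ∏ i ∈ Finset.univ.filter (fun i => ¬ c i = -1), c i = 1 :=
      Finset.prod_eq_one fun i hi => (h1 i).resolve_right (Finset.mem_filter.1 hi).2
    rw [h4, mul_one]
  rw [hp] at h3
  have h5 : Even (Finset.univ.filter fun i => c i = -1).card := by
    by_contra h
    rw [Nat.not_even_iff_odd] at h
    rw [h.neg_one_pow] at h3
    norm_num at h3
  obtain ⟨k, hk⟩ := h5
  refine ⟨k, ?_⟩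
  rw [Finset.sum_congr rfl (fun i _ => h2 i), Finset.sum_sub_distrib, ← Finset.mul_sum, Finset.sum_boole, hk]
  simp only [Finset.sum_const, Finset.card_univ, nsmul_eq_mul, mul_one]
  push_cast
  ring

theorem char_mod_four {G : Type u} [Group G] (hperf : commutator G = ⊤) {U : G → ℂ}
    (hU : IsCharacter G U) {t : G} (ht : t ^ 2 = 1) : ∃ k : ℕ, U t = U 1 - 4 * k := by
  classical
  obtain ⟨n, ρ, rfl⟩ := hU
  have h1 : (ρ t) ^ 2 = 1 := by rw [← map_pow, ht, map_one]
  obtain ⟨b, c, h2, h3⟩ := Characters.GaloisBasic.exists_basis_eigenvectors (ρ t) two_ne_zero h1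
  have h5 : ∏ j, c j = 1 := by rw [← det_of_basis b c (ρ t) h2]; exact det_eq_one hperf ρ t
  obtain ⟨k, hk⟩ := sum_signs c h3 h5
  refine ⟨k, ?_⟩
  have h6 : ρ.character t = ∑ j, c j := trace_of_basis b c (ρ t) h2
  rw [h6, hk, Representation.char_one]
  simp

section

variable {G : Type u} [Group G] [Fintype G] [Fintype (IrrCharacter G)]

/-- `π = 1 + U + conj U` -/
theorem Par.exists_half (H : Subgroup G) (h : Par G (G ⧸ H)) :
    ∃ U : G → ℂ, IsCharacter G U ∧ ∀ g, fixN G (G ⧸ H) g = 1 + U g + conj (U g) := by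
  classical
  obtain ⟨a, ha⟩ := isCharacter_iff.1 (isCharacter_fixN H)
  have ha1 : ∀ χ : IrrCharacter G, classInner (fixN G (G ⧸ H)) (χ : G → ℂ) = a χ := fun χ => by
    rw [ha, classInner_sum_nsmul_irr]
  have hac := coeff_cj rv_fixN ha
  have hone : cj (iOne G) = iOne G := (cj_eq_iff _).2 rv_one
  have h1 : a (iOne G) = 1 := by
    have := Fintype.ofFinite H
    have h2 := ha1 (iOne G)
    have h3 : classInner (fixN G (G ⧸ H)) (iOne G : G → ℂ) = 1 := by
      rw [← fixN_quot, classInner_indFun_left H _ (fun _ _ => rfl)]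
      exact classInner_one_one
    rw [h3] at h2
    exact_mod_cast h2.symm
  let δ : IrrCharacter G → ℕ := fun χ => if χ = iOne G then 1 else 0
  have hδc : ∀ χ, δ (cj χ) = δ χ := by
    intro χ
    have h2 : (cj χ = iOne G) ↔ (χ = iOne G) := by
      constructor
      · intro h3
        have h4 := congrArg cj h3
        rwa [cj_cj, hone] at h4
      · rintro rfl; exact hone
    simp only [δ, h2]
  have hev : ∀ χ, cj χ = χ → ∃ k : ℕ, a χ = δ χ + 2 * k := by
    intro χ h2
    by_cases h3 : χ = iOne G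
    · subst h3
      exact ⟨0, by simp only [δ, if_true, h1]⟩
    · obtain ⟨k, hk⟩ := h χ (isIrr_isCharacter χ.2) ((cj_eq_iff χ).1 h2)
      have h4 : classInner (fun _ => 1) (χ : G → ℂ) = 0 :=
        classInner_irr_ne (iOne G).2 χ.2 (fun h4 => h3 (Subtype.ext h4.symm))
      rw [ha1, h4, sub_zero] at hk
      have h5 : (a χ : ℤ) = 2 * k := by exact_mod_cast hk
      refine ⟨k.toNat, ?_⟩
      simp only [δ, if_neg h3]
      omega
  let e := Fintype.equivFin (IrrCharacter G)
  let c : IrrCharacter G → ℕ := fun χ => if cj χ = χ then (a χ - δ χ) / 2 else if e χ < e (cj χ) then a χ else 0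
  have hc : ∀ χ, a χ = δ χ + c χ + c (cj χ) := by
    intro χ
    by_cases h2 : cj χ = χ
    · obtain ⟨k, hk⟩ := hev χ h2
      simp only [c, h2, if_true]
      omega
    · have h3 : ¬ cj (cj χ) = cj χ := by rw [cj_cj]; exact fun h3 => h2 h3.symm
      have h4 : χ ≠ iOne G := by rintro rfl; exact h2 hone
      have h5 : δ χ = 0 := by simp only [δ, if_neg h4]
      have h6 : e χ ≠ e (cj χ) := fun h6 => h2 (e.injective h6).symm
      simp only [c]
      rw [if_neg h2, if_neg h3, cj_cj, h5, hac]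
      rcases lt_or_gt_of_ne h6 with h7 | h7
      · rw [if_pos h7, if_neg (not_lt.2 h7.le)]; omega
      · rw [if_neg (not_lt.2 h7.le), if_pos h7]; omega
  refine ⟨∑ χ, c χ • (χ : G → ℂ), isCharacter_iff.2 ⟨c, rfl⟩, fun g => ?_⟩
  have e1 : conj ((∑ χ, c χ • (χ : G → ℂ)) g) = ∑ χ : IrrCharacter G, (c (cj χ) : ℂ) * (χ : G → ℂ) g := by
    rw [Finset.sum_apply, map_sum]
    let cjE : IrrCharacter G ≃ IrrCharacter G := ⟨cj, cj, cj_cj, cj_cj⟩
    refine Fintype.sum_equiv cjE _ _ fun χ => ?_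
    change conj ((c χ • (χ : G → ℂ)) g) = (c (cj (cj χ)) : ℂ) * conj ((χ : G → ℂ) g)
    rw [cj_cj, Pi.smul_apply, nsmul_eq_mul, map_mul, Complex.conj_natCast]
  rw [e1, ha]
  have e2 : (1 : ℂ) = ∑ χ : IrrCharacter G, (δ χ : ℂ) * (χ : G → ℂ) g := by
    simp only [δ]
    push_cast
    simp only [ite_mul, one_mul, zero_mul]
    rw [Finset.sum_ite_eq' Finset.univ (iOne G), if_pos (Finset.mem_univ _)]
    rfl
  conv_rhs => rw [e2]
  simp only [Finset.sum_apply, nsmul_eq_mul]
  rw [← Finset.sum_add_distrib, ← Finset.sum_add_distrib]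
  refine Finset.sum_congr rfl fun χ _ => ?_
  rw [hc χ]
  push_cast
  simp only [Pi.mul_apply, Pi.add_apply, Pi.natCast_apply]
  ring

end

/-- **For a perfect group the number of fixed points of an involution is congruent to the degree modulo `8`.** -/
theorem Par.mod_eight {G : Type u} [Group G] [Fintype G] (hperf : commutator G = ⊤) (H : Subgroup G)
    (h : Par G (G ⧸ H)) {t : G} (ht : t ^ 2 = 1) :
    Nat.card {ω : G ⧸ H // t • ω = ω} ≡ H.index [MOD 8] := by
  classical
  have := finite_irr (G := G)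
  have := Fintype.ofFinite (IrrCharacter G)
  obtain ⟨U, hU, h1⟩ := Par.exists_half H h
  obtain ⟨k, hk⟩ := char_mod_four hperf hU ht
  obtain ⟨n, hn⟩ := isCharacter_apply_one hU
  have h2 := h1 t
  have h3 := h1 1
  rw [hk, hn] at h2
  rw [hn] at h3
  have e1 : fixN G (G ⧸ H) t = (Nat.card {ω : G ⧸ H // t • ω = ω} : ℂ) := rfl
  have e2 : fixN G (G ⧸ H) 1 = (H.index : ℂ) := by rw [fixN_one]; rfl
  rw [e1] at h2
  rw [e2] at h3
  simp only [map_sub, map_mul, Complex.conj_natCast, map_ofNat] at h2 h3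
  have h4 : ((Nat.card {ω : G ⧸ H // t • ω = ω} : ℤ) : ℂ) = ((H.index - 8 * k : ℤ) : ℂ) := by
    push_cast
    rw [h2, h3]
    ring
  have h5 : (Nat.card {ω : G ⧸ H // t • ω = ω} : ℤ) = H.index - 8 * k := by exact_mod_cast h4
  rw [← Int.natCast_modEq_iff, h5]
  exact (Int.modEq_iff_dvd).2 ⟨k, by push_cast; ring⟩

end Cfsg.Agent.H453.OddM
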