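import Cfsg.Agent.H270.Odm.Frame
import Cfsg.Agent.ClassicalGeometry.Discriminant

/-!
# S4785: subspaces fixed by subgroups of odd index of `PΩ(Q)` are nondegenerate
-/

set_option autoImplicit false

namespace Cfsg.Agent.H453.OddM.OP

open Module QuadraticMap Matrix Cfsg Cfsg.Geo Cfsg.Agent.ClassicalGeometry.Reflection
open Cfsg.Agent.H884.El (pre mem_pre)
open Cfsg.Agent.H270.Odm (mt mt_isom mt_polar mt_mul_vec mt_one_vec mt_inv_vec mt_inv_vec')
open scoped MatrixGroups commutatorElement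

variable {ι : Type} [Fintype ι] [DecidableEq ι] {F : Type} [Field F] {I : Type}

/-- an orthogonal frame with equal values except perhaps at `o` -/
structure Fr (Q : QuadraticForm F (ι → F)) (e : I → ι → F) (o : I) (κ : F) : Prop where
  ne : κ ≠ 0
  val : ∀ i, i ≠ o → Q (e i) = κ
  valo : Q (e o) ≠ 0
  orth : ∀ i j, i ≠ j → polar Q (e i) (e j) = 0
  full : ∀ u, (∀ i, polar Q (e i) u = 0) → u = 0

variable {Q : QuadraticForm F (ι → F)} {e : I → ι → F} {o : I} {κ : F}

omit [Fintype ι] [DecidableEq ι] in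
theorem Fr.nz (h : Fr Q e o κ) (i : I) : Q (e i) ≠ 0 := by
  by_cases hi : i = o
  · rw [hi]; exact h.valo
  · rw [h.val i hi]; exact h.ne

/-- the reflections of the frame -/
noncomputable def rr (h : Fr Q e o κ) (i : I) : isometryGroup F ⇑Q := reflIso Q (e i) (h.nz i)

theorem rr_self (h : Fr Q e o κ) (i : I) : mt (rr h i) *ᵥ e i = -e i := reflectionMatrix_mulVec_self Q (e i) (h.nz i)

theorem rr_ne (h : Fr Q e o κ) {i j : I} (hij : i ≠ j) : mt (rr h i) *ᵥ e j = e j :=
  reflectionMatrix_mulVec_of_polar_eq_zero Q _ _ (h.orth i j hij)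

theorem rr_mul_mem (h2 : (2 : F) ≠ 0) (h : Fr Q e o κ) {i j : I} (hi : i ≠ o) (hj : j ≠ o) (hij : i ≠ j) :
    rr h i * rr h j ∈ Omega F ⇑Q := by
  have h1 : Q (e i - e j) ≠ 0 := by
    rw [sub_eq_add_neg, QuadraticMap.map_add Q, QuadraticMap.map_neg, QuadraticMap.polar_neg_right, h.orth i j hij,
      h.val i hi, h.val j hj]
    intro h0
    have h3 : 2 * κ = 0 := by linear_combination h0
    exact (mul_ne_zero h2 h.ne) h3
  have h3 : mt (reflIso Q (e i - e j) h1) *ᵥ e i = e j :=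
    reflectionMatrix_sub_mulVec Q (e i) (e j) (by rw [h.val i hi, h.val j hj]) h1
  have h4 : rr h j = reflIso Q (e i - e j) h1 * rr h i * (reflIso Q (e i - e j) h1)⁻¹ := by
    have h5 := conj_reflIso Q (e i) (h.nz i) (reflIso Q (e i - e j) h1) (by rw [h3]; exact h.nz j)
    unfold rr
    rw [h5]
    congr 1
    exact h3.symm
  have h5 : rr h i * rr h j = ⁅rr h i, reflIso Q (e i - e j) h1⁆ := by
    have h6 : (rr h i)⁻¹ = rr h i := reflIso_inv Q _ _
    rw [commutatorElement_def, h6]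
    conv_lhs => rw [h4]
    group
  rw [h5]
  exact Subgroup.commutator_mem_commutator (Subgroup.mem_top _) (Subgroup.mem_top _)

theorem diag_sq (h : Fr Q e o κ) {x : Omega F ⇑Q} (hx : x ∈ H270.Odm.diag Q e) : x * x = 1 := by
  apply Subtype.ext
  apply isometryGroup_ext
  intro u
  have h1 : ∀ i, mt ((x * x : Omega F ⇑Q) : isometryGroup F ⇑Q) *ᵥ e i = e i := by
    intro i
    have h2 : mt ((x * x : Omega F ⇑Q) : isometryGroup F ⇑Q) *ᵥ e i =
        mt (x : isometryGroup F ⇑Q) *ᵥ (mt (x : isometryGroup F ⇑Q) *ᵥ e i) := mt_mul_vec _ _ _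
    rw [h2]
    rcases hx i with h3 | h3
    · rw [h3, h3]
    · rw [h3, Matrix.mulVec_neg, h3, neg_neg]
  have h2 : mt ((x * x : Omega F ⇑Q) : isometryGroup F ⇑Q) *ᵥ u - u = 0 := by
    apply h.full
    intro i
    have h3 : polar ⇑Q (e i) (mt ((x * x : Omega F ⇑Q) : isometryGroup F ⇑Q) *ᵥ u) = polar ⇑Q (e i) u := by
      conv_lhs => rw [← h1 i]
      exact mt_polar _ _ _
    rw [QuadraticMap.polar_sub_right, h3, sub_self]
  rw [sub_eq_zero] at h2
  rw [h2]
  exact (mt_one_vec u).symm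

theorem diag_pgroup (h : Fr Q e o κ) : IsPGroup 2 (H270.Odm.diag Q e) := by
  intro x
  refine ⟨1, ?_⟩
  rw [pow_one, pow_two]
  exact Subtype.ext (diag_sq h x.2)

theorem rr_mem_diag (h2 : (2 : F) ≠ 0) (h : Fr Q e o κ) {i j : I} (hi : i ≠ o) (hj : j ≠ o) (hij : i ≠ j) :
    (⟨rr h i * rr h j, rr_mul_mem h2 h hi hj hij⟩ : Omega F ⇑Q) ∈ H270.Odm.diag Q e := by
  intro k
  show mt (rr h i * rr h j) *ᵥ e k = e k ∨ mt (rr h i * rr h j) *ᵥ e k = -e k
  rw [mt_mul_vec]
  by_cases h3 : j = k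
  · subst h3
    rw [rr_self, Matrix.mulVec_neg, rr_ne h hij]
    exact Or.inr rfl
  · rw [rr_ne h h3]
    by_cases h4 : i = k
    · subst h4
      rw [rr_self]
      exact Or.inr rfl
    · rw [rr_ne h h4]
      exact Or.inl rfl

theorem rr_apply (h : Fr Q e o κ) {i : I} (hi : i ≠ o) (u : ι → F) :
    mt (rr h i) *ᵥ u = u - (κ⁻¹ * polar Q (e i) u) • e i := by
  have h1 : mt (rr h i) *ᵥ u = reflectionMatrix (⇑Q) (e i) *ᵥ u := rfl
  rw [h1, reflectionMatrix_mulVec, h.val i hi]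

/-- the core of the argument: an invariant subspace of the diagonal group is nondegenerate -/
theorem rad_zero (h2 : (2 : F) ≠ 0) (h : Fr Q e o κ) (h3 : ∀ i, i ≠ o → ∃ j k, j ≠ o ∧ k ≠ o ∧ i ≠ j ∧ i ≠ k ∧ j ≠ k)
    {W : Submodule F (ι → F)}
    (hW : ∀ x ∈ H270.Odm.diag Q e, ∀ w ∈ W, mt (x : isometryGroup F ⇑Q) *ᵥ w ∈ W) {w : ι → F} (hw : w ∈ W)
    (hrad : ∀ x ∈ W, polar ⇑Q w x = 0) : w = 0 := by
  have hκ := h.ne
  have hprod : ∀ i j, i ≠ o → j ≠ o → i ≠ j → ∀ x ∈ W,
      polar Q (e i) x • e i + polar Q (e j) x • e j ∈ W := by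
    intro i j hi hj hij x hx
    have h4 := hW _ (rr_mem_diag h2 h hi hj hij) x hx
    have h5 : mt (rr h i * rr h j) *ᵥ x = x - κ⁻¹ • (polar Q (e i) x • e i + polar Q (e j) x • e j) := by
      rw [mt_mul_vec, rr_apply h hj, Matrix.mulVec_sub, Matrix.mulVec_smul, rr_ne h hij, rr_apply h hi]
      rw [smul_add, smul_smul, smul_smul]
      abel
    have h6 : x - mt (rr h i * rr h j) *ᵥ x ∈ W := W.sub_mem hx h4
    rw [h5, sub_sub_cancel] at h6
    have h7 := W.smul_mem κ h6
    rwa [smul_smul, mul_inv_cancel₀ hκ, one_smul] at h7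
  have hself : ∀ i, polar Q (e i) (e i) = 2 * Q (e i) := by
    intro i
    rw [QuadraticMap.polar_self, two_nsmul, two_mul]
  have hz : ∀ i, i ≠ o → polar Q (e i) w = 0 := by
    intro i hi
    by_contra hne
    obtain ⟨j, k, hj, hk, hij, hik, hjk⟩ := h3 i hi
    have h4 := hprod i j hi hj hij w hw
    have h5 := hprod i k hi hk hik _ h4
    have e1 : polar Q (e i) (polar Q (e i) w • e i + polar Q (e j) w • e j) = polar Q (e i) w * (2 * κ) := by
      rw [QuadraticMap.polar_add_right, QuadraticMap.polar_smul_right, QuadraticMap.polar_smul_right,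
        h.orth i j hij, hself, h.val i hi, smul_eq_mul, smul_eq_mul, mul_zero, add_zero]
    have e2 : polar Q (e k) (polar Q (e i) w • e i + polar Q (e j) w • e j) = 0 := by
      rw [QuadraticMap.polar_add_right, QuadraticMap.polar_smul_right, QuadraticMap.polar_smul_right,
        h.orth k j hjk.symm, h.orth k i hik.symm, smul_zero, smul_zero, add_zero]
    rw [e1, e2, zero_smul, add_zero] at h5
    have h6 := hrad _ h5
    rw [QuadraticMap.polar_smul_right, smul_eq_mul, QuadraticMap.polar_comm _ w] at h6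
    exact (mul_ne_zero (mul_ne_zero hne (mul_ne_zero h2 hκ)) hne) h6
  have hwo : w = (polar Q (e o) w * (2 * Q (e o))⁻¹) • e o := by
    rw [← sub_eq_zero]
    apply h.full
    intro i
    rw [QuadraticMap.polar_sub_right, QuadraticMap.polar_smul_right, smul_eq_mul]
    by_cases hi : i = o
    · rw [hi, hself, inv_mul_cancel_right₀ (mul_ne_zero h2 h.valo), sub_self]
    · rw [hz i hi, h.orth i o hi, mul_zero, sub_zero]
  have h4 := hrad w hw
  rw [QuadraticMap.polar_self, two_nsmul, ← two_mul] at h4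
  have h5 : Q w = 0 := (mul_eq_zero.1 h4).resolve_left h2
  rw [hwo, QuadraticMap.map_smul, smul_eq_mul] at h5
  have h6 := (mul_eq_zero.1 h5).resolve_right h.valo
  rw [hwo, mul_self_eq_zero.1 h6, zero_smul]

/-- a frame exists -/
theorem exists_fr [Finite F] (h2 : (2 : F) ≠ 0) (hQ : (polarBilin Q).Nondegenerate) (o : ι) :
    ∃ e : ι → ι → F, Fr Q e o (2⁻¹ : F) := by
  let B : LinearMap.BilinForm F (ι → F) := polarBilin Q
  have hS : B.IsSymm := ⟨fun x y => QuadraticMap.polar_comm _ _ _⟩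
  let b : Basis ι F (ι → F) := Pi.basisFun F ι
  have hd : (LinearMap.BilinForm.toMatrix b B).det ≠ 0 := (LinearMap.BilinForm.nondegenerate_iff_det_ne_zero b).1 hQ
  obtain ⟨v, hv⟩ := ClassicalGeometry.Discriminant.exists_basis_diag h2 B hS hQ (ι := ι) b
    (fun i => if i = o then (LinearMap.BilinForm.toMatrix b B).det else 1) (by simp)
    (fun i => by split_ifs; exacts [hd, one_ne_zero]) 1 (by simp)
  have hself : ∀ i, 2 * Q (v i) = if i = o then (LinearMap.BilinForm.toMatrix b B).det else 1 := by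
    intro i
    have h1 := hv i i
    rw [if_pos rfl] at h1
    rw [← h1]
    change _ = polar Q (v i) (v i)
    rw [QuadraticMap.polar_self, two_nsmul, two_mul]
  refine ⟨fun i => v i, inv_ne_zero h2, fun i hi => ?_, ?_, fun i j hij => ?_, fun u hu => ?_⟩
  · have h1 := hself i
    rw [if_neg hi] at h1
    field_simp
    linear_combination h1
  · have h1 := hself o
    rw [if_pos rfl] at h1
    intro h0
    rw [h0, mul_zero] at h1
    exact hd h1.symm
  · have h1 := hv i j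
    rwa [if_neg hij] at h1
  · have h1 : ∀ x, B x u = 0 := by
      intro x
      have h3 : LinearMap.flip B u = 0 := v.ext fun i => hu i
      exact LinearMap.congr_fun h3 x
    have h5 : ∀ x, B u x = 0 := fun x => by rw [← h1 x]; exact QuadraticMap.polar_comm _ _ _
    exact hQ.1 u h5

/-- **Subspaces fixed by subgroups of odd index are nondegenerate.** -/
theorem nondeg_of_odd [Finite F] (h2 : (2 : F) ≠ 0) (hQ : (polarBilin Q).Nondegenerate) (hι : 4 ≤ Fintype.card ι)
    {R : Subgroup (POmega F ⇑Q)} (hR : Odd R.index) {W : Submodule F (ι → F)} (hst : pre (⇑Q) R ≤ subspaceStabilizer W)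
    {w : ι → F} (hw : w ∈ W) (hrad : ∀ x ∈ W, polar ⇑Q w x = 0) : w = 0 := by
  classical
  have hfin : Finite (isometryGroup F ⇑Q) := Subtype.finite
  obtain ⟨o⟩ : Nonempty ι := Fintype.card_pos_iff.1 (by omega)
  obtain ⟨e, he⟩ := exists_fr h2 hQ o
  obtain ⟨g, hg⟩ := H453.OddM.Cov.two_group hR
    ((diag_pgroup he).map (QuotientGroup.mk' (Subgroup.center (Omega F ⇑Q))))
  obtain ⟨g, rfl⟩ := QuotientGroup.mk'_surjective _ g
  -- the subspace `W' = g⁻¹ W`
  let W' : Submodule F (ι → F) := W.comap (Matrix.mulVecLin (mt (g : isometryGroup F ⇑Q)))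
  have hmem : ∀ x, x ∈ W' ↔ mt (g : isometryGroup F ⇑Q) *ᵥ x ∈ W := fun x => Iff.rfl
  have hinv : ∀ x ∈ H270.Odm.diag Q e, ∀ w ∈ W', mt (x : isometryGroup F ⇑Q) *ᵥ w ∈ W' := by
    intro x hx w hw
    rw [hmem] at hw ⊢
    have h3 : (((g * x * g⁻¹ : Omega F ⇑Q) : isometryGroup F ⇑Q) : GL ι F) ∈ pre (⇑Q) R := by
      rw [mem_pre]
      have h4 := hg _ ⟨x, hx, rfl⟩
      rwa [← map_mul, ← map_inv, ← map_mul] at h4
    have h4 := (hst h3 _).1 hw
    have h5 : mt ((g : isometryGroup F ⇑Q) * (x : isometryGroup F ⇑Q) * (g : isometryGroup F ⇑Q)⁻¹) *ᵥ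
        (mt (g : isometryGroup F ⇑Q) *ᵥ w) ∈ W := h4
    rwa [mt_mul_vec, mt_mul_vec, mt_inv_vec'] at h5
  have h3 : ∀ i, i ≠ o → ∃ j k, j ≠ o ∧ k ≠ o ∧ i ≠ j ∧ i ≠ k ∧ j ≠ k := by
    intro i hi
    obtain ⟨j, hj⟩ : ∃ j, j ∉ ({o, i} : Finset ι) := by
      by_contra hcon
      push Not at hcon
      have h4 : Fintype.card ι ≤ ({o, i} : Finset ι).card := Finset.card_le_card fun x _ => hcon x
      have h5 := Finset.card_le_two (a := o) (b := i)
      omega
    obtain ⟨k, hk⟩ : ∃ k, k ∉ ({o, i, j} : Finset ι) := by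
      by_contra hcon
      push Not at hcon
      have h4 : Fintype.card ι ≤ ({o, i, j} : Finset ι).card := Finset.card_le_card fun x _ => hcon x
      have h5 := Finset.card_le_three (a := o) (b := i) (c := j)
      omega
    simp only [Finset.mem_insert, Finset.mem_singleton, not_or] at hj hk
    exact ⟨j, k, hj.1, hk.1, fun h => hj.2 h.symm, fun h => hk.2.1 h.symm, fun h => hk.2.2 h.symm⟩
  have h6 : mt (g : isometryGroup F ⇑Q)⁻¹ *ᵥ w = 0 := by
    refine rad_zero h2 he h3 hinv ?_ fun x hx => ?_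
    · rw [hmem, mt_inv_vec]
      exact hw
    · have h7 := hrad _ hx
      rw [← mt_inv_vec (g : isometryGroup F ⇑Q) w] at h7
      rw [← h7]
      exact (mt_polar (g : isometryGroup F ⇑Q) _ _).symm
  rw [← mt_inv_vec (g : isometryGroup F ⇑Q) w, h6, Matrix.mulVec_zero]

end Cfsg.Agent.H453.OddM.OP
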