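import Cfsg.Agent.OddOrderCharacters.IndRes
import Cfsg.Agent.H453.OddM.Defs

/-!
# Characters and parities (TEAM ODDM, S4785)

`Par G Ω` : the permutation character of `G` on `Ω` is congruent to `1` on real characters modulo `2`.
-/

set_option autoImplicit false
open Cfsg
open scoped ComplexConjugate

namespace Cfsg.Agent.H453.OddM

open Cfsg.Agent.Characters.Core Cfsg.Agent.OddOrderCharacters.IndRes

universe u v w

/-- the permutation character -/
noncomputable def fixN (G : Type u) (Ω : Type v) [Group G] [MulAction G Ω] : G → ℂ :=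
  fun g => (Nat.card {ω : Ω // g • ω = ω} : ℂ)

/-- real-valued -/
def RV {G : Type u} (ψ : G → ℂ) : Prop := ∀ g, conj (ψ g) = ψ g

def Par (G : Type u) (Ω : Type v) [Group G] [Fintype G] [MulAction G Ω] : Prop :=
  ∀ ψ : G → ℂ, IsCharacter G ψ → RV ψ → ∃ k : ℤ, classInner (fixN G Ω) ψ - classInner (fun _ => 1) ψ = 2 * k

section basic

variable {G : Type u} [Group G]

theorem fixN_conj {Ω : Type v} [MulAction G Ω] (g h : G) : fixN G Ω (h * g * h⁻¹) = fixN G Ω g := by
  unfold fixN
  congr 1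
  refine Nat.card_congr ((MulAction.toPerm h⁻¹ : Equiv.Perm Ω).subtypeEquiv fun ω => ?_)
  change _ ↔ g • h⁻¹ • ω = h⁻¹ • ω
  rw [mul_smul, mul_smul, smul_eq_iff_eq_inv_smul]

theorem fixN_classFunction {Ω : Type v} [MulAction G Ω] : IsClassFunction G (fixN G Ω) := fun g h => fixN_conj g h

theorem rv_fixN {Ω : Type v} [MulAction G Ω] : RV (fixN G Ω) := fun g => by
  unfold fixN
  exact Complex.conj_natCast _

theorem fixN_congr {Ω : Type v} {Ω' : Type w} [MulAction G Ω] [MulAction G Ω'] (e : Ω ≃ Ω')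
    (he : ∀ (g : G) (ω : Ω), e (g • ω) = g • e ω) : fixN G Ω = fixN G Ω' := by
  funext g
  unfold fixN
  congr 1
  refine Nat.card_congr (e.subtypeEquiv fun ω => ?_)
  rw [← he, e.apply_eq_iff_eq]

theorem Par.congr [Fintype G] {Ω : Type v} {Ω' : Type w} [MulAction G Ω] [MulAction G Ω'] (e : Ω ≃ Ω')
    (he : ∀ (g : G) (ω : Ω), e (g • ω) = g • e ω) (h : Par G Ω) : Par G Ω' := by
  intro ψ h1 h2
  obtain ⟨k, hk⟩ := h ψ h1 h2
  exact ⟨k, by rw [← fixN_congr e he]; exact hk⟩

/-- restriction to a subgroup -/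
theorem Par.res [Fintype G] {Ω : Type v} [MulAction G Ω] (h : Par G Ω) (K : Subgroup G) [Fintype K] : Par K Ω := by
  intro ψ h1 h2
  obtain ⟨k, hk⟩ := h (indFun K ψ) (isCharacter_indFun K h1) (fun g => by
    have h3 : (fun x : K => conj (ψ x)) = ψ := funext h2
    have h4 := congrFun (conj_indFun K ψ) g
    rw [h3] at h4
    exact h4)
  refine ⟨k, ?_⟩
  rw [classInner_indFun_right K ψ fixN_classFunction, classInner_indFun_right K ψ (fun _ _ => rfl)] at hk
  exact hk

theorem fixN_one {Ω : Type v} [MulAction G Ω] : fixN G Ω 1 = Nat.card Ω := by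
  unfold fixN
  congr 1
  exact Nat.card_congr (Equiv.subtypeUnivEquiv fun ω => one_smul G ω)

/-- Burnside: the number of orbits -/
theorem classInner_fixN_one [Fintype G] {Ω : Type v} [Finite Ω] [MulAction G Ω] :
    classInner (fixN G Ω) (fun _ => 1) = Nat.card (MulAction.orbitRel.Quotient G Ω) := by
  classical
  have := Fintype.ofFinite Ω
  have h1 := MulAction.sum_card_fixedBy_eq_card_orbits_mul_card_group G Ω
  have h2 : ∑ g : G, fixN G Ω g = (Fintype.card (MulAction.orbitRel.Quotient G Ω) * Fintype.card G : ℕ) := by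
    rw [← h1]
    push_cast
    refine Finset.sum_congr rfl fun g _ => ?_
    unfold fixN
    rw [← Nat.card_eq_fintype_card]
    rfl
  unfold classInner
  simp only [map_one, mul_one]
  rw [h2, Nat.card_eq_fintype_card, Nat.card_eq_fintype_card]
  push_cast
  have h3 : (Fintype.card G : ℂ) ≠ 0 := by exact_mod_cast Fintype.card_ne_zero
  field_simp

theorem classInner_one_one [Fintype G] : classInner (fun _ : G => (1 : ℂ)) (fun _ => 1) = 1 := by
  unfold classInner
  simp only [map_one, mul_one, Finset.sum_const, Finset.card_univ, nsmul_eq_mul]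
  rw [Nat.card_eq_fintype_card]
  have h3 : (Fintype.card G : ℂ) ≠ 0 := by exact_mod_cast Fintype.card_ne_zero
  field_simp

theorem Par.odd_orb [Fintype G] {Ω : Type v} [Finite Ω] [MulAction G Ω] (h : Par G Ω) (K : Subgroup G) :
    Odd (Nat.card (MulAction.orbitRel.Quotient K Ω)) := by
  classical
  have := Fintype.ofFinite K
  obtain ⟨k, hk⟩ := h.res K (fun _ => 1) isCharacter_one (fun _ => map_one _)
  rw [classInner_fixN_one, classInner_one_one] at hk
  have h2 : ((Nat.card (MulAction.orbitRel.Quotient K Ω) : ℤ) : ℂ) = ((2 * k + 1 : ℤ) : ℂ) := by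
    push_cast
    linear_combination hk
  have h3 : (Nat.card (MulAction.orbitRel.Quotient K Ω) : ℤ) = 2 * k + 1 := by exact_mod_cast h2
  have h4 : Odd ((Nat.card (MulAction.orbitRel.Quotient K Ω) : ℕ) : ℤ) := ⟨k, h3⟩
  exact_mod_cast h4

theorem Par.odd_card [Fintype G] {Ω : Type v} [Finite Ω] [MulAction G Ω] (h : Par G Ω) : Odd (Nat.card Ω) := by
  have h1 := h.odd_orb ⊥
  have h2 : Nat.card (MulAction.orbitRel.Quotient (⊥ : Subgroup G) Ω) = Nat.card Ω := by
    refine (Nat.card_congr (Equiv.ofBijective (Quotient.mk _) ⟨fun a b hab => ?_, Quotient.mk_surjective⟩)).symm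
    obtain ⟨⟨g, hg⟩, h⟩ := (MulAction.orbitRel_apply.1 (Quotient.exact hab))
    rw [Subgroup.mem_bot] at hg
    subst hg
    rw [← h]
    exact one_smul G b
  rwa [h2] at h1

end basic

end Cfsg.Agent.H453.OddM
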