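import Cfsg.Agent.H453.OddM.Par
import Cfsg.Agent.Characters.GaloisBasic

/-!
# From characters to fixed points (TEAM ODDM, S4785)
-/

set_option autoImplicit false
open Cfsg
open scoped ComplexConjugate

namespace Cfsg.Agent.H453.OddM

open Cfsg.Agent.Characters.Core Cfsg.Agent.OddOrderCharacters.IndRes

universe u v w

section quot

variable {G : Type u} [Group G]

theorem sum_quot [Fintype G] (H : Subgroup G) [Fintype (G ⧸ H)] (F : G ⧸ H → ℂ) :
    ∑ x : G, F (QuotientGroup.mk x) = Nat.card H * ∑ ω : G ⧸ H, F ω := by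
  classical
  rw [← Finset.sum_fiberwise_of_maps_to (s := Finset.univ) (t := Finset.univ)
    (g := fun x : G => (QuotientGroup.mk x : G ⧸ H)) (fun _ _ => Finset.mem_univ _), Finset.mul_sum]
  refine Finset.sum_congr rfl fun ω _ => ?_
  rw [Finset.sum_congr rfl (g := fun _ => F ω) (fun x hx => by rw [(Finset.mem_filter.1 hx).2]),
    Finset.sum_const, nsmul_eq_mul]
  congr 2
  obtain ⟨g, rfl⟩ := QuotientGroup.mk_surjective ω
  rw [← Fintype.card_subtype, ← Nat.card_eq_fintype_card]
  refine Nat.card_congr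
    { toFun := fun x => ⟨g⁻¹ * x.1, by
        have h := x.2
        exact QuotientGroup.eq.1 h.symm⟩
      invFun := fun h => ⟨g * h, by rw [QuotientGroup.mk_mul_of_mem _ h.2]⟩
      left_inv := fun x => by simp
      right_inv := fun h => by simp }

theorem fixN_quot [Fintype G] (H : Subgroup G) : indFun H (fun _ => (1 : ℂ)) = fixN G (G ⧸ H) := by
  classical
  have := Fintype.ofFinite (G ⧸ H)
  funext g
  have h1 : ∀ x : G, extendByZero H (fun _ => (1 : ℂ)) (x⁻¹ * g * x) =
      (fun ω : G ⧸ H => if g • ω = ω then (1 : ℂ) else 0) (QuotientGroup.mk x) := by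
    intro x
    by_cases h : x⁻¹ * g * x ∈ H
    · rw [extendByZero_of_mem H _ h]
      simp only [fixed_iff.2 h, if_true]
    · rw [extendByZero_of_notMem H _ h]
      simp only
      rw [if_neg (fun h' => h (fixed_iff.1 h'))]
  rw [indFun_apply, Finset.sum_congr rfl (fun x _ => h1 x),
    sum_quot H (fun ω : G ⧸ H => if g • ω = ω then (1 : ℂ) else 0), ← mul_assoc, inv_mul_cancel₀, one_mul,
    Finset.sum_boole]
  · unfold fixN
    congr 1
    rw [Nat.card_eq_fintype_card, Fintype.card_subtype]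
  · exact_mod_cast Nat.card_pos.ne'

theorem isCharacter_fixN [Fintype G] (H : Subgroup G) : IsCharacter G (fixN G (G ⧸ H)) := by
  rw [← fixN_quot]
  exact isCharacter_indFun H isCharacter_one

end quot

section irr

variable {G : Type u} [Group G] [Fintype G] [Fintype (IrrCharacter G)]

/-- complex conjugation on irreducible characters -/
noncomputable def cj (χ : IrrCharacter G) : IrrCharacter G := ⟨fun g => conj ((χ : G → ℂ) g), isIrr_conj χ.2⟩

omit [Fintype (IrrCharacter G)] in
theorem cj_cj (χ : IrrCharacter G) : cj (cj χ) = χ := Subtype.ext (funext fun g => Complex.conj_conj _)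

omit [Fintype (IrrCharacter G)] in
theorem cj_eq_iff (χ : IrrCharacter G) : cj χ = χ ↔ RV (χ : G → ℂ) :=
  ⟨fun h g => congrFun (congrArg Subtype.val h) g, fun h => Subtype.ext (funext h)⟩

/-- the coefficients of a real character are symmetric -/
theorem coeff_cj {ψ : G → ℂ} (hψ : RV ψ) {n : IrrCharacter G → ℕ} (hn : ψ = ∑ χ, n χ • (χ : G → ℂ))
    (χ : IrrCharacter G) : n (cj χ) = n χ := by
  have h1 : ∀ χ : IrrCharacter G, classInner ψ (χ : G → ℂ) = n χ := fun χ => by
    rw [hn, classInner_sum_nsmul_irr]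
  have h2 : classInner ψ (cj χ : G → ℂ) = conj (classInner ψ (χ : G → ℂ)) := by
    unfold classInner
    rw [map_mul, map_inv₀, Complex.conj_natCast, map_sum]
    congr 1
    refine Finset.sum_congr rfl fun g _ => ?_
    rw [map_mul, hψ g]
    rfl
  rw [h1, h1, Complex.conj_natCast] at h2
  exact_mod_cast h2

omit [Group G] [Fintype G] [Fintype (IrrCharacter G)] in
theorem rv_one : RV (fun _ : G => (1 : ℂ)) := fun _ => map_one _

/-- the trivial character -/
noncomputable def iOne (G : Type u) [Group G] : IrrCharacter G := ⟨fun _ => 1, isIrr_one⟩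

/-- the hypothesis of S4785 gives `Par` -/
theorem par_of_irr (H : Subgroup G)
    (h : ∀ χ : IrrCharacter G, (χ : G → ℂ) ≠ (fun _ => 1) → RV (χ : G → ℂ) →
      ∀ m : ℕ, Odd m → classInner (indFun H (fun _ : H => (1 : ℂ))) (χ : G → ℂ) ≠ m) : Par G (G ⧸ H) := by
  classical
  have := Fintype.ofFinite H
  rw [fixN_quot] at h
  intro ψ hψ hr
  obtain ⟨a, ha⟩ := isCharacter_iff.1 (isCharacter_fixN H)
  obtain ⟨n, hn⟩ := isCharacter_iff.1 hψ
  have ha1 : ∀ χ : IrrCharacter G, classInner (fixN G (G ⧸ H)) (χ : G → ℂ) = a χ := fun χ => by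
    rw [ha, classInner_sum_nsmul_irr]
  have h1 : a (iOne G) = 1 := by
    have h2 := ha1 (iOne G)
    have h3 : classInner (fixN G (G ⧸ H)) (iOne G : G → ℂ) = 1 := by
      rw [← fixN_quot, classInner_indFun_left H _ (fun _ _ => rfl)]
      exact classInner_one_one
    rw [h3] at h2
    exact_mod_cast h2.symm
  have hac := coeff_cj rv_fixN ha
  have hnc := coeff_cj hr hn
  have hev : ∀ χ : IrrCharacter G, cj χ = χ → χ ≠ iOne G → (a χ : ZMod 2) = 0 := by
    intro χ h2 h3
    rw [ZMod.natCast_eq_zero_iff, ← even_iff_two_dvd, ← Nat.not_odd_iff_even]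
    intro h4
    exact h χ (fun h5 => h3 (Subtype.ext h5)) ((cj_eq_iff χ).1 h2) (a χ) h4 (ha1 χ)
  have hone : cj (iOne G) = iOne G := (cj_eq_iff _).2 rv_one
  have key : ∑ χ : IrrCharacter G, ((a χ : ZMod 2) * (n χ : ZMod 2) - if χ = iOne G then (n χ : ZMod 2) else 0) = 0 := by
    refine Finset.sum_involution (fun χ _ => cj χ) ?_ ?_ (fun _ _ => Finset.mem_univ _) (fun χ _ => cj_cj χ)
    · intro χ _
      rw [hac, hnc]
      have h2 : (cj χ = iOne G) ↔ (χ = iOne G) := by
        constructor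
        · intro h3
          have h4 := congrArg cj h3
          rwa [cj_cj, hone] at h4
        · rintro rfl; exact hone
      simp only [h2]
      exact CharTwo.add_self_eq_zero _
    · intro χ _ h2 h3
      apply h2
      by_cases h4 : χ = iOne G
      · subst h4
        rw [h1, if_pos rfl]
        simp
      · rw [hev χ h3 h4, if_neg h4]
        simp
  rw [Finset.sum_sub_distrib, Finset.sum_ite_eq' Finset.univ (iOne G), if_pos (Finset.mem_univ _)] at key
  have e1 : classInner (fixN G (G ⧸ H)) ψ = ((∑ χ, a χ * n χ : ℕ) : ℂ) := by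
    rw [hn, classInner_sum_right]
    push_cast
    refine Finset.sum_congr rfl fun χ _ => ?_
    have h5 : ((n χ • (χ : G → ℂ)) : G → ℂ) = (n χ : ℂ) • (χ : G → ℂ) := by
      funext g; simp
    rw [h5, classInner_smul_right, ha1, Complex.conj_natCast, mul_comm]
  have e2 : classInner (fun _ => 1) ψ = n (iOne G) := by
    have h5 : classInner ψ (iOne G : G → ℂ) = n (iOne G) := by rw [hn, classInner_sum_nsmul_irr]
    rw [← classInner_conj_symm]
    change conj (classInner ψ (iOne G : G → ℂ)) = _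
    rw [h5, Complex.conj_natCast]
  rw [e1, e2]
  have h6 : (((∑ χ, a χ * n χ : ℕ) : ℤ) - (n (iOne G) : ℤ) : ZMod 2) = 0 := by
    push_cast
    exact key
  have h8 : (((((∑ χ, a χ * n χ : ℕ) : ℤ) - (n (iOne G) : ℤ) : ℤ)) : ZMod 2) = 0 := by
    push_cast
    exact key
  obtain ⟨k, hk⟩ := (ZMod.intCast_zmod_eq_zero_iff_dvd _ 2).1 h8
  refine ⟨k, ?_⟩
  have h7 := congrArg (fun z : ℤ => (z : ℂ)) hk
  push_cast at h7 ⊢
  exact h7

/-- real elements have an odd number of fixed points -/
theorem Par.odd_fix (H : Subgroup G) (h : Par G (G ⧸ H)) {x : G} (hx : IsReal x) :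
    Odd (Nat.card {ω : G ⧸ H // x • ω = ω}) := by
  classical
  obtain ⟨a, ha⟩ := isCharacter_iff.1 (isCharacter_fixN H)
  have ha1 : ∀ χ : IrrCharacter G, classInner (fixN G (G ⧸ H)) (χ : G → ℂ) = a χ := fun χ => by
    rw [ha, classInner_sum_nsmul_irr]
  have hac := coeff_cj rv_fixN ha
  have hone : cj (iOne G) = iOne G := (cj_eq_iff _).2 rv_one
  have hxv : ∀ χ : IrrCharacter G, (cj χ : G → ℂ) x = (χ : G → ℂ) x := by
    intro χ
    obtain ⟨g, hg⟩ := hx
    change conj ((χ : G → ℂ) x) = _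
    rw [← isCharacter_apply_inv (isIrr_isCharacter χ.2) x, ← hg]
    exact isIrr_isClassFunction χ.2 x g
  let A := integralClosure ℤ ℂ
  let c : IrrCharacter G → A := fun χ => ⟨(χ : G → ℂ) x,
    Characters.GaloisBasic.isIntegral_apply (isIrr_isCharacter χ.2) x⟩
  let b : IrrCharacter G → ℤ := fun χ => (a χ : ℤ) - if χ = iOne G then 1 else 0
  let I : Ideal A := Ideal.span {2}
  have hI : ∀ y : A, Ideal.Quotient.mk I (2 * y) = 0 := fun y =>
    Ideal.Quotient.eq_zero_iff_mem.2 (Ideal.mem_span_singleton.2 ⟨y, rfl⟩)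
  have hb : ∀ χ, b (cj χ) = b χ := by
    intro χ
    have h2 : (cj χ = iOne G) ↔ (χ = iOne G) := by
      constructor
      · intro h3
        have h4 := congrArg cj h3
        rwa [cj_cj, hone] at h4
      · rintro rfl; exact hone
    simp only [b, hac, h2]
  have hbe : ∀ χ, cj χ = χ → ∃ k : ℤ, b χ = 2 * k := by
    intro χ h1
    obtain ⟨k, hk⟩ := h χ (isIrr_isCharacter χ.2) ((cj_eq_iff χ).1 h1)
    refine ⟨k, ?_⟩
    rw [ha1] at hk
    have h2 : classInner (fun _ => 1) (χ : G → ℂ) = if χ = iOne G then 1 else 0 := by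
      by_cases h3 : χ = iOne G
      · subst h3
        rw [if_pos rfl]
        exact classInner_one_one
      · rw [if_neg h3]
        exact classInner_irr_ne (iOne G).2 χ.2 (fun h4 => h3 (Subtype.ext h4.symm))
    rw [h2] at hk
    have h4 : ((b χ : ℤ) : ℂ) = ((2 * k : ℤ) : ℂ) := by
      simp only [b]
      push_cast
      rw [← hk]
    exact_mod_cast h4
  have key : ∑ χ : IrrCharacter G, Ideal.Quotient.mk I ((b χ : A) * c χ) = 0 := by
    refine Finset.sum_involution (fun χ _ => cj χ) ?_ ?_ (fun _ _ => Finset.mem_univ _) (fun χ _ => cj_cj χ)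
    · intro χ _
      have h1 : c (cj χ) = c χ := Subtype.ext (hxv χ)
      rw [h1, hb, ← map_add, ← two_mul]
      exact hI _
    · intro χ _ h2 h3
      apply h2
      obtain ⟨k, hk⟩ := hbe χ h3
      rw [hk]
      push_cast
      rw [mul_assoc]
      exact hI _
  rw [← map_sum, Ideal.Quotient.eq_zero_iff_mem] at key
  obtain ⟨y, hy⟩ := Ideal.mem_span_singleton.1 key
  have h1 : fixN G (G ⧸ H) x - 1 = 2 * (y : ℂ) := by
    have h2 := congrArg (fun z : A => (z : ℂ)) hy
    simp only [AddSubmonoidClass.coe_finsetSum, MulMemClass.coe_mul] at h2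
    have h3 : ∑ χ : IrrCharacter G, (((b χ : A) : ℂ) * (c χ : ℂ)) = fixN G (G ⧸ H) x - 1 := by
      have h4 : ∀ χ : IrrCharacter G, (((b χ : A) : ℂ) * (c χ : ℂ)) =
          (a χ : ℂ) * (χ : G → ℂ) x - if χ = iOne G then (χ : G → ℂ) x else 0 := by
        intro χ
        have h5 : ((b χ : A) : ℂ) = (b χ : ℂ) := by simp
        rw [h5]
        simp only [b, c]
        push_cast
        split_ifs <;> ring
      rw [Finset.sum_congr rfl (fun χ _ => h4 χ), Finset.sum_sub_distrib,
        Finset.sum_ite_eq' Finset.univ (iOne G), if_pos (Finset.mem_univ _), ha]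
      congr 1
      simp [Finset.sum_apply]
    rw [h3] at h2
    rw [h2]
    have h6 : ((2 : A) : ℂ) = 2 := map_ofNat (algebraMap A ℂ) 2
    rw [h6]
  obtain ⟨k, hk⟩ := Characters.GaloisBasic.exists_int_of_isIntegral y.2
    ⟨((Nat.card {ω : G ⧸ H // x • ω = ω} : ℚ) - 1) / 2, by
      push_cast
      have h2 : fixN G (G ⧸ H) x = (Nat.card {ω : G ⧸ H // x • ω = ω} : ℂ) := rfl
      rw [h2] at h1
      rw [h1]
      ring⟩
  rw [hk] at h1
  have h2 : ((Nat.card {ω : G ⧸ H // x • ω = ω} : ℤ) : ℂ) = ((2 * k + 1 : ℤ) : ℂ) := by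
    push_cast
    have h2 : fixN G (G ⧸ H) x = (Nat.card {ω : G ⧸ H // x • ω = ω} : ℂ) := rfl
    rw [h2] at h1
    linear_combination h1
  have h3 : (Nat.card {ω : G ⧸ H // x • ω = ω} : ℤ) = 2 * k + 1 := by exact_mod_cast h2
  have h4 : Odd ((Nat.card {ω : G ⧸ H // x • ω = ω} : ℕ) : ℤ) := ⟨k, h3⟩
  exact_mod_cast h4

end irr

/-- the interface -/
theorem Par.ro {G : Type u} [Group G] [Fintype G] (H : Subgroup G) (h : Par G (G ⧸ H)) : RO G H := by
  classical
  have := finite_irr (G := G)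
  have := Fintype.ofFinite (IrrCharacter G)
  exact ⟨h.odd_card, fun x hx => Par.odd_fix H h hx, fun K => h.odd_orb K⟩

end Cfsg.Agent.H453.OddM
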