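import Cfsg.Agent.H453.OddM.Real
import Cfsg.Agent.S0205

/-!
# S4785: reduction to simple groups (TEAM ODDM)
-/

set_option autoImplicit false
open Cfsg
open scoped ComplexConjugate commutatorElement

namespace Cfsg.Agent.H453.OddM

open Cfsg.Agent.Characters.Core Cfsg.Agent.OddOrderCharacters Cfsg.Agent.OddOrderCharacters.IndRes

universe u v w

/-- Inner products along a surjective homomorphism (after helper693). -/
theorem classInner_comp_surj {M N : Type*} [Group M] [Fintype M] [Group N] [Fintype N]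
    (p : M →* N) (hp : Function.Surjective p) (f g : N → ℂ) :
    classInner (fun x => f (p x)) (fun x => g (p x)) = classInner f g := by
  classical
  rw [classInner_def, classInner_def]
  have hfib : ∀ y : N, (Finset.univ.filter (fun x : M => p x = y)).card = Nat.card p.ker := by
    intro y
    obtain ⟨x₀, rfl⟩ := hp y
    rw [← Fintype.card_subtype, ← Nat.card_eq_fintype_card]
    refine Nat.card_congr ⟨fun x => ⟨x₀⁻¹ * x, ?_⟩, fun k => ⟨x₀ * k, ?_⟩, ?_, ?_⟩
    · rw [MonoidHom.mem_ker, map_mul, map_inv, x.2, inv_mul_cancel]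
    · rw [map_mul, MonoidHom.mem_ker.1 k.2, mul_one]
    · intro x
      exact Subtype.ext (mul_inv_cancel_left _ _)
    · intro k
      exact Subtype.ext (inv_mul_cancel_left _ _)
  have h1 : ∑ x : M, f (p x) * conj (g (p x)) =
      Nat.card p.ker * ∑ y : N, f y * conj (g y) := by
    rw [← Finset.sum_fiberwise Finset.univ p, Finset.mul_sum]
    refine Finset.sum_congr rfl fun y _ => ?_
    rw [Finset.sum_congr rfl (g := fun _ => f y * conj (g y)) (fun x hx => by
      rw [(Finset.mem_filter.1 hx).2]), Finset.sum_const, hfib, nsmul_eq_mul]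
  rw [h1]
  have h2 : (Nat.card M : ℂ) = Nat.card p.ker * Nat.card N := by
    have h3 := p.ker.card_mul_index
    rw [Subgroup.index_ker, MonoidHom.range_eq_top.2 hp, Subgroup.card_top] at h3
    exact_mod_cast h3.symm
  have h4 : (Nat.card p.ker : ℂ) ≠ 0 := card_ne_zero_complex
  have h5 : (Nat.card N : ℂ) ≠ 0 := card_ne_zero_complex
  rw [h2]
  field_simp

section steps

variable {G : Type u} [Group G] [Fintype G]

/-- passage to the quotient by a normal subgroup -/
theorem Par.quot {H : Subgroup G} (h : Par G (G ⧸ H)) (L : Subgroup G) [L.Normal] [Fintype (G ⧸ L)] :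
    Par (G ⧸ L) ((G ⧸ L) ⧸ H.map (QuotientGroup.mk' L)) := by
  classical
  have := Fintype.ofFinite H
  have := Fintype.ofFinite (H.map (QuotientGroup.mk' L))
  intro ψ h1 h2
  obtain ⟨k, hk⟩ := h (fun x => ψ (QuotientGroup.mk' L x)) (isCharacter_comp (QuotientGroup.mk' L) h1)
    (fun g => h2 _)
  refine ⟨k, ?_⟩
  rw [← hk]
  congr 1
  · have hcf : IsClassFunction G (fun x => ψ (QuotientGroup.mk' L x)) :=
      isCharacter_isClassFunction (isCharacter_comp (QuotientGroup.mk' L) h1)
    rw [← fixN_quot, ← fixN_quot, classInner_indFun_left _ _ (isCharacter_isClassFunction h1),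
      classInner_indFun_left _ _ hcf]
    let p : H →* H.map (QuotientGroup.mk' L) := (QuotientGroup.mk' L).subgroupMap H
    have hp : Function.Surjective p := (QuotientGroup.mk' L).subgroupMap_surjective H
    exact (classInner_comp_surj p hp (fun _ => 1) (IndRes.res (H.map (QuotientGroup.mk' L)) ψ)).symm
  · exact (classInner_comp_surj (QuotientGroup.mk' L) (QuotientGroup.mk'_surjective L) (fun _ => 1) ψ).symm

/-- passage to a transitive normal subgroup -/
theorem Par.sub {H : Subgroup G} (h : Par G (G ⧸ H)) (N : Subgroup G) [N.Normal] [Fintype N] (hN : H ⊔ N = ⊤) :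
    Par N (N ⧸ H.subgroupOf N) := by
  classical
  have h1 := h.res N
  let f : N ⧸ H.subgroupOf N → G ⧸ H :=
    Quotient.map' (fun n : N => (n : G)) (fun a b hab => by
      rw [QuotientGroup.leftRel_apply] at hab ⊢
      exact hab)
  have hf : Function.Bijective f := by
    constructor
    · intro a b hab
      obtain ⟨a, rfl⟩ := QuotientGroup.mk_surjective a
      obtain ⟨b, rfl⟩ := QuotientGroup.mk_surjective b
      have h2 : (QuotientGroup.mk (a : G) : G ⧸ H) = QuotientGroup.mk (b : G) := hab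
      rw [QuotientGroup.eq] at h2 ⊢
      exact h2
    · intro c
      obtain ⟨g, rfl⟩ := QuotientGroup.mk_surjective c
      have hg : g⁻¹ ∈ H ⊔ N := by rw [hN]; trivial
      obtain ⟨x, hx, y, hy, hxy⟩ := Subgroup.mem_sup_of_normal_right.1 hg
      refine ⟨QuotientGroup.mk (⟨y, hy⟩⁻¹ : N), ?_⟩
      change (QuotientGroup.mk ((⟨y, hy⟩⁻¹ : N) : G) : G ⧸ H) = QuotientGroup.mk g
      rw [QuotientGroup.eq]
      have h3 : g = y⁻¹ * x⁻¹ := by rw [← mul_inv_rev, hxy, inv_inv]
      rw [h3]
      simpa using hx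
  refine h1.congr (Equiv.ofBijective f hf).symm ?_
  intro g ω
  rw [Equiv.symm_apply_eq]
  obtain ⟨w, rfl⟩ := hf.2 ω
  have h4 : (Equiv.ofBijective f hf).symm (f w) = w := (Equiv.ofBijective f hf).symm_apply_apply w
  rw [h4]
  obtain ⟨a, rfl⟩ := QuotientGroup.mk_surjective w
  rfl

end steps

/-- the abelian case -/
theorem abelian_case {G : Type u} [Group G] [Finite G] (hO : ∀ N : Subgroup G, N.Normal → Odd N.index → N = ⊤)
    {H : Subgroup G} (h : RO G H) (hH : H ≠ ⊤) (N : Subgroup G) [hNn : N.Normal] (hN : H ⊔ N = ⊤)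
    (hmin : ∀ K : Subgroup G, K.Normal → K ≤ N → K = ⊥ ∨ K = N) (hab : ∀ a ∈ N, ∀ b ∈ N, a * b = b * a) : False := by
  -- a1
  have h1 : (H ⊓ N).Normal := by
    rw [← Subgroup.normalizer_eq_top_iff, eq_top_iff, ← hN]
    refine sup_le ?_ ?_
    · intro x hx
      rw [Subgroup.mem_normalizer_iff]
      intro y
      constructor
      · intro hy
        exact ⟨H.mul_mem (H.mul_mem hx hy.1) (H.inv_mem hx), hNn.conj_mem y hy.2 x⟩
      · intro hy
        have e : y = x⁻¹ * (x * y * x⁻¹) * x⁻¹⁻¹ := by group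
        rw [e]
        exact ⟨H.mul_mem (H.mul_mem (H.inv_mem hx) hy.1) (H.inv_mem (H.inv_mem hx)), hNn.conj_mem _ hy.2 x⁻¹⟩
    · intro x hx
      rw [Subgroup.mem_normalizer_iff]
      intro y
      constructor
      · intro hy
        have e : x * y * x⁻¹ = y := by rw [hab x hx y hy.2, mul_inv_cancel_right]
        rw [e]; exact hy
      · intro hy
        have hyN : y ∈ N := by
          have := hNn.conj_mem _ hy.2 x⁻¹
          simpa [mul_assoc] using this
        have e : x * y * x⁻¹ = y := by rw [hab x hx y hyN, mul_inv_cancel_right]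
        rwa [e] at hy
  have hNH : ¬ N ≤ H := fun hle => hH (by rw [← hN, sup_eq_left.2 hle])
  have h2 : H ⊓ N = ⊥ := by
    rcases hmin _ h1 inf_le_right with h | h
    · exact h
    · exact absurd (inf_eq_right.1 h) hNH
  -- a3
  have h3 : ∀ y ∈ N, IsReal y → y = 1 := by
    intro y hy hr
    obtain ⟨g, hg⟩ := h.exists_conj hr
    have h4 : g * y * g⁻¹ ∈ H ⊓ N := ⟨hg, hNn.conj_mem y hy g⟩
    rw [h2, Subgroup.mem_bot] at h4
    have h5 : y = g⁻¹ * (g * y * g⁻¹) * g := by group
    rw [h5, h4]; group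
  -- a4
  have h4 : ∀ t : G, t ^ 2 ∈ Subgroup.centralizer (N : Set G) → t ∈ Subgroup.centralizer (N : Set G) := by
    intro t ht
    rw [Subgroup.mem_centralizer_iff] at ht ⊢
    intro n hn
    have h5 : n⁻¹ * (t * n * t⁻¹) = 1 := by
      refine h3 _ (N.mul_mem (N.inv_mem hn) (hNn.conj_mem n hn t)) ⟨t, ?_⟩
      have h6 : t * (t * n * t⁻¹) * t⁻¹ = n := by
        have h7 := ht n hn
        calc t * (t * n * t⁻¹) * t⁻¹ = (t * t) * n * (t * t)⁻¹ := by group
          _ = n := by rw [← sq, ← h7, mul_inv_cancel_right]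
      have h8 : t * n⁻¹ * t⁻¹ ∈ N := hNn.conj_mem _ (N.inv_mem hn) t
      calc t * (n⁻¹ * (t * n * t⁻¹)) * t⁻¹ = (t * n⁻¹ * t⁻¹) * (t * (t * n * t⁻¹) * t⁻¹) := by group
        _ = (t * n⁻¹ * t⁻¹) * n := by rw [h6]
        _ = (n⁻¹ * (t * n * t⁻¹))⁻¹ := by group
    have h9 : t * n * t⁻¹ = n := by
      have := congrArg (fun z => n * z) h5
      simpa [mul_assoc] using this
    calc n * t = (t * n * t⁻¹) * t := by rw [h9]
      _ = t * n := by group
  -- a5
  have h5 : (Subgroup.centralizer (N : Set G)) = ⊤ := by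
    refine hO _ inferInstance ?_
    by_contra hodd
    rw [Nat.not_odd_iff_even, even_iff_two_dvd] at hodd
    have : Finite (G ⧸ Subgroup.centralizer (N : Set G)) := inferInstance
    obtain ⟨x, hx⟩ := exists_prime_orderOf_dvd_card' (G := G ⧸ Subgroup.centralizer (N : Set G)) 2 hodd
    obtain ⟨t, rfl⟩ := QuotientGroup.mk_surjective x
    have h6 : t ^ 2 ∈ Subgroup.centralizer (N : Set G) := by
      rw [← QuotientGroup.eq_one_iff, QuotientGroup.mk_pow, ← hx]
      exact pow_orderOf_eq_one _
    have h7 := (QuotientGroup.eq_one_iff t).2 (h4 t h6)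
    rw [h7, orderOf_one] at hx
    exact absurd hx (by decide)
  -- a6
  have h6 : H.Normal := by
    rw [← Subgroup.normalizer_eq_top_iff, eq_top_iff, ← hN]
    refine sup_le Subgroup.le_normalizer ?_
    intro x hx
    have hc : ∀ y : G, x * y = y * x := by
      intro y
      have : y ∈ Subgroup.centralizer (N : Set G) := by rw [h5]; trivial
      exact Subgroup.mem_centralizer_iff.1 this x hx
    rw [Subgroup.mem_normalizer_iff]
    intro y
    rw [hc y, mul_inv_cancel_right]
  exact hH (hO H h6 h.odd_index)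

/-- the normal subgroup generated by the `2`-elements of `N` -/
def twoGen {G : Type u} [Group G] (N : Subgroup G) : Subgroup G :=
  Subgroup.normalClosure {x | x ∈ N ∧ ∃ k : ℕ, x ^ (2 ^ k) = 1}

theorem twoGen_le {G : Type u} [Group G] (N : Subgroup G) [N.Normal] : twoGen N ≤ N :=
  Subgroup.normalClosure_le_normal fun _ hx => hx.1

/-- a normal subgroup of odd index of `N` contains the `2`-elements -/
theorem twoGen_le_map {G : Type u} [Group G] (N : Subgroup G) [hN : N.Normal] (M : Subgroup N) [hM : M.Normal]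
    (h : Odd M.index) : twoGen N ≤ M.map N.subtype := by
  unfold twoGen Subgroup.normalClosure
  rw [Subgroup.closure_le]
  intro y hy
  obtain ⟨x, ⟨hx, k, hk⟩, hxy⟩ := Group.mem_conjugatesOfSet_iff.1 hy
  obtain ⟨c, hc⟩ := isConj_iff.1 hxy
  have hyN : y ∈ N := by rw [← hc]; exact hN.conj_mem x hx c
  have hyk : y ^ (2 ^ k) = 1 := by
    rw [← hc, conj_pow, hk, mul_one, mul_inv_cancel]
  refine ⟨⟨y, hyN⟩, ?_, rfl⟩
  have h1 : ((⟨y, hyN⟩ : N) : N ⧸ M) ^ (2 ^ k) = 1 := by
    rw [← QuotientGroup.mk_pow]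
    have : (⟨y, hyN⟩ : N) ^ (2 ^ k) = 1 := Subtype.ext hyk
    rw [this]; rfl
  have h2 : orderOf ((⟨y, hyN⟩ : N) : N ⧸ M) ∣ 2 ^ k := orderOf_dvd_of_pow_eq_one h1
  have h3 : orderOf ((⟨y, hyN⟩ : N) : N ⧸ M) ∣ M.index := orderOf_dvd_natCard _
  have h4 : Nat.Coprime (2 ^ k) M.index := Nat.Coprime.pow_left k (Nat.coprime_two_left.2 h)
  have h5 : orderOf ((⟨y, hyN⟩ : N) : N ⧸ M) = 1 := Nat.eq_one_of_dvd_coprimes h4 h2 h3
  exact (QuotientGroup.eq_one_iff _).1 (orderOf_eq_one_iff.1 h5)

theorem reduce_aux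
    (hrow : ∀ (T : Type u) [Group T] [Finite T] [IsSimpleGroup T], (¬ ∀ a b : T, a * b = b * a) → Row T) :
    ∀ (n : ℕ) (G : Type u) [Group G] [Fintype G], Nat.card G = n →
      (∀ N : Subgroup G, N.Normal → Odd N.index → N = ⊤) → ∀ H : Subgroup G, Par G (G ⧸ H) → H = ⊤ := by
  intro n
  induction n using Nat.strong_induction_on with
  | _ n ih =>
  intro G _ _ hn hO H h
  classical
  by_contra hH
  -- `N` minimal normal with `H N = G`
  obtain ⟨N, hN⟩ := (Set.toFinite {N : Subgroup G | N.Normal ∧ H ⊔ N = ⊤}).exists_minimal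
    ⟨⊤, inferInstance, sup_top_eq H⟩
  obtain ⟨⟨hNn, hNt⟩, hNmin⟩ := hN
  have hN0 : N ≠ ⊥ := by rintro rfl; rw [sup_bot_eq] at hNt; exact hH hNt
  -- `L` maximal normal below `N`
  obtain ⟨L, hL⟩ := (Set.toFinite {L : Subgroup G | L.Normal ∧ L ≤ N ∧ L ≠ N}).exists_maximal
    ⟨⊥, inferInstance, bot_le, hN0.symm⟩
  obtain ⟨⟨hLn, hLN, hLne⟩, hLmax⟩ := hL
  have hHL : H ⊔ L ≠ ⊤ := fun h1 => hLne (le_antisymm hLN (hNmin ⟨hLn, h1⟩ hLN))
  by_cases hL0 : L = ⊥
  · subst hL0
    have hmin : ∀ K : Subgroup G, K.Normal → K ≤ N → K = ⊥ ∨ K = N := by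
      intro K hK hKN
      by_cases h1 : K = N
      · exact Or.inr h1
      · exact Or.inl (le_bot_iff.1 (hLmax ⟨hK, hKN, h1⟩ bot_le))
    have hro : RO G H := Par.ro H h
    by_cases hab : ∀ a ∈ N, ∀ b ∈ N, a * b = b * a
    · exact abelian_case hO hro hH N hNt hmin hab
    · by_cases hNtop : N = ⊤
      · subst hNtop
        have hs : IsSimpleGroup G :=
          { exists_pair_ne := by
              obtain ⟨x, -, hx⟩ := (Subgroup.ne_bot_iff_exists_ne_one (H := (⊤ : Subgroup G))).1 hN0 |>.elim
                (fun a ha => (⟨(a : G), trivial, fun h => ha (Subtype.ext h)⟩ : ∃ x : G, True ∧ x ≠ 1))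
              exact ⟨x, 1, hx⟩
            eq_bot_or_eq_top_of_normal := fun K hK => hmin K hK le_top }
        exact hH (hrow G (fun hc => hab fun a _ b _ => hc a b) H hro)
      · -- induction for `N`
        have hcard : Nat.card N < n := by
          rw [← hn]
          exact lt_of_le_of_ne (Subgroup.card_le_card_group N) (fun h1 => hNtop (Subgroup.eq_top_of_card_eq N h1))
        have hR : twoGen N = ⊥ ∨ twoGen N = N := hmin _ Subgroup.normalClosure_normal (twoGen_le N)
        have hRN : twoGen N = N := by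
          refine hR.resolve_left fun h0 => ?_
          -- `N` has odd order, hence is solvable, hence abelian
          have hodd : Odd (Nat.card N) := by
            by_contra h1
            rw [Nat.not_odd_iff_even, even_iff_two_dvd] at h1
            obtain ⟨x, hx⟩ := exists_prime_orderOf_dvd_card' 2 h1
            have h2 : (x : G) ∈ twoGen N := Subgroup.subset_normalClosure ⟨x.2, 1, by
              rw [pow_one, ← Subgroup.coe_pow, ← hx, pow_orderOf_eq_one]; rfl⟩
            rw [h0, Subgroup.mem_bot] at h2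
            have h3 : x = 1 := Subtype.ext h2
            rw [h3, orderOf_one] at hx
            exact absurd hx (by decide)
          have hsol : Group.IsSolvable N := S0205.result hodd
          have hc : ⁅N, N⁆ = ⊥ ∨ ⁅N, N⁆ = N := hmin _ inferInstance (Subgroup.commutator_le_right N N)
          rcases hc with hc | hc
          · exact hab fun a ha b hb => by
              have h2 : ⁅a, b⁆ ∈ ⁅N, N⁆ := Subgroup.commutator_mem_commutator ha hb
              rw [hc, Subgroup.mem_bot, commutatorElement_eq_one_iff_mul_comm] at h2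
              exact h2
          · have hnt : Nontrivial N := (Subgroup.nontrivial_iff_ne_bot N).2 hN0
            have h2 := Group.IsSolvable.commutator_lt_top_of_nontrivial (G := N)
            refine h2.ne (Subgroup.map_injective N.subtype_injective ?_)
            rw [Subgroup.map_subtype_commutator, hc, ← MonoidHom.range_eq_map, Subgroup.range_subtype]
        have ihN := ih _ hcard N rfl (by
          intro M hM hMo
          have h2 := twoGen_le_map N M hMo
          rw [hRN] at h2
          rw [eq_top_iff]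
          intro x _
          obtain ⟨y, hy, hyx⟩ := h2 x.2
          have h3 : y = x := Subtype.ext hyx
          rw [← h3]
          exact hy) (H.subgroupOf N) (h.sub N hNt)
        rw [Subgroup.subgroupOf_eq_top] at ihN
        exact hH (by rw [← hNt, sup_eq_left.2 ihN])
  · -- pass to `G / L`
    have hcard : Nat.card (G ⧸ L) < n := by
      have h1 := L.card_mul_index
      have h2 : 1 < Nat.card L := (Subgroup.one_lt_card_iff_ne_bot L).2 hL0
      have h3 : 0 < L.index := Nat.pos_of_ne_zero L.index_ne_zero_of_finite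
      change L.index < n
      rw [← hn, ← h1]
      nlinarith
    have := Fintype.ofFinite (G ⧸ L)
    have h1 := ih _ hcard (G ⧸ L) rfl (by
      intro K hK hKo
      have h2 : (K.comap (QuotientGroup.mk' L)).index = K.index :=
        Subgroup.index_comap_of_surjective K (QuotientGroup.mk'_surjective L)
      have h3 := hO (K.comap (QuotientGroup.mk' L)) inferInstance (by rw [h2]; exact hKo)
      rw [eq_top_iff]
      intro x _
      obtain ⟨g, rfl⟩ := QuotientGroup.mk'_surjective L x
      have h4 : g ∈ K.comap (QuotientGroup.mk' L) := by rw [h3]; trivial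
      exact h4) _ (h.quot L)
    apply hHL
    have h2 : (H.map (QuotientGroup.mk' L)).comap (QuotientGroup.mk' L) = H ⊔ L := by
      rw [Subgroup.comap_map_eq, QuotientGroup.ker_mk']
    rw [← h2, h1, Subgroup.comap_top]

/-- **S4785 from the rows.** -/
theorem s4785_of_rows
    (hrow : ∀ (T : Type u) [Group T] [Finite T] [IsSimpleGroup T], (¬ ∀ a b : T, a * b = b * a) → Row T)
    {G : Type u} [Group G] [Fintype G] (hO : ∀ N : Subgroup G, N.Normal → Odd N.index → N = ⊤) (H : Subgroup G)
    (hH : H ≠ ⊤) : ∃ χ : IrrCharacter G, (χ : G → ℂ) ≠ (fun _ => 1) ∧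
      (∀ g : G, (starRingEnd ℂ) ((χ : G → ℂ) g) = (χ : G → ℂ) g) ∧
      ∃ m : ℕ, Odd m ∧ classInner (indFun H (fun _ : H => (1 : ℂ))) (χ : G → ℂ) = m := by
  classical
  by_contra hcon
  have := finite_irr (G := G)
  have := Fintype.ofFinite (IrrCharacter G)
  refine hH (reduce_aux hrow _ G rfl hO H (par_of_irr H fun χ h1 h2 m h3 h4 => hcon ⟨χ, h1, h2, m, h3, h4⟩))

end Cfsg.Agent.H453.OddM
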