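import Cfsg.Agent.H260.OddM.GeoUMain
import Cfsg.Agent.H660.OddM.RealLin
import Cfsg.Agent.H746.OddM.ThreeU
import Cfsg.Agent.H976.OddM.UnC
import Cfsg.Agent.H551.OddUnE
import Cfsg.Agent.H453.OddM.UnR
import Cfsg.Agent.H453.OddM.Asm

/-!
# S4785: the rows `PSU_n(q)`, `q` odd
-/

set_option autoImplicit false
open Cfsg

namespace Cfsg.Agent.H453.OddM

open Cfsg.Agent.OrdDiv Cfsg.Agent.H436

universe u

theorem mainU (n q : ℕ) (F : Type) [Field F] [Fintype F] : Un.MainU q n F := fun _ D =>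
  Un.main_of D (fun _ _ _ _ hab hc hd ha hb => H976.OddM.UnC.good D hab hc hd ha hb)
    (fun hall _ _ _ hx hy hz hdet => H551.OddUnE.full D hall hx hy hz hdet)

/-- **U-RES**: no subgroup of the residual class of `PSU_n(q)`, `n ≥ 3`, `q` odd, is `Cov` -/
theorem no_res_psu {F : Type} [Field F] [Fintype F] {n q : ℕ} (hF : Fintype.card F = q ^ 2)
    (h2 : (2 : F) ≠ 0) (hn : 3 ≤ n) {M : Subgroup (PSU n F q)} (hM : M ≠ ⊤) (hc : Cov (PSU n F q) M) :
    ¬ Geo.InUnitaryResidualClass (H251.GeoU.pre M) := by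
  rintro ⟨P, hP, -⟩
  exact Un.res_psu hF h2 hn (mainU n q F) hM hc hP

/-- **`PSU_n(q)`, `n ≥ 4`, `q` odd** -/
theorem rowC_psu {F : Type} [Field F] [Fintype F] {n q : ℕ} (hF : Fintype.card F = q ^ 2)
    (h2 : (2 : F) ≠ 0) (hn : 4 ≤ n) : RowC (PSU n F q) := fun _ hM hc =>
  no_res_psu hF h2 (by omega) hM.1 hc (H260.OddM.geoU_cov hF h2 hn
    (fun _ _ hv hk hkn h => realP_psu hF h2 hk hkn hv h) hM.1 hc)

/-- **The rows `PSU_n(q)`, `q` odd.** -/
theorem row_psu (n q : ℕ) (hq : ¬ 2 ∣ q) : RowN.{u} (.psu n q) := by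
  intro T _ _ _ hT
  obtain ⟨F, _, _, hF, ⟨e⟩⟩ := hT.real
  obtain ⟨hn, h3, hpp⟩ := hT.cond
  rcases hn.eq_or_lt with rfl | hn4
  · exact H746.OddM.ThreeU.row_psu_three q hq T hT
  have h2 : (2 : F) ≠ 0 := by
    intro h0
    apply hq
    have h4 := (CharP.cast_eq_zero_iff F (ringChar F) 2).1 (by exact_mod_cast h0)
    have h5 : ringChar F = 2 := by
      rcases (Nat.dvd_prime Nat.prime_two).1 h4 with h | h
      · exact absurd h (CharP.ringChar_ne_one)
      · exact h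
    have h6 : (2 : ℕ) ∣ Fintype.card F := by
      have h7 : ((Fintype.card F : ℕ) : F) = 0 := FiniteField.cast_card_eq_zero F
      have h8 := (CharP.cast_eq_zero_iff F (ringChar F) _).1 h7
      rwa [h5] at h8
    rw [hF] at h6
    exact Nat.prime_two.dvd_of_dvd_pow h6
  have hfin : Finite (PSU n F q) := Quotient.finite _
  exact Row8.congr e.symm (Row.row8 (RowC.row (rowC_psu hF h2 hn4)))

end Cfsg.Agent.H453.OddM
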