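import Cfsg.Agent.H453.OddM.Mod8

/-!
# Tools for the rows of TEAM ODDM (S4785)

* `RO.orb`     : the number of orbits of `R` on `T ⧸ K` is odd, for every `K`
* `RO.sub`     : `RO` passes to a subgroup `L` which is transitive on `T ⧸ R`
* `RO8`, `Row8`: `RO` together with `fix t ≡ |T : R| (mod 8)` for all involutions `t`; a row may prove `Row8 T`
                 instead of `Row T`
* `s4785_of_rows8` : S4785 from `Row8`.
-/

set_option autoImplicit false
open Cfsg
open scoped ComplexConjugate commutatorElement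

namespace Cfsg.Agent.H453.OddM

universe u v w

open Cfsg.Agent.Characters.Core Cfsg.Agent.OddOrderCharacters Cfsg.Agent.OddOrderCharacters.IndRes

/-- two surjections with the same fibres -/
theorem card_eq_of_fibres {X : Type u} {A : Type v} {B : Type w} (f : X → A) (g : X → B)
    (hf : Function.Surjective f) (hg : Function.Surjective g) (h : ∀ x y, f x = f y ↔ g x = g y) :
    Nat.card A = Nat.card B := by
  refine Nat.card_congr (Equiv.ofBijective (fun a => g (Function.surjInv hf a)) ⟨fun a b hab => ?_, fun b => ?_⟩)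
  · have h1 := (h _ _).2 hab
    rwa [Function.surjInv_eq hf, Function.surjInv_eq hf] at h1
  · obtain ⟨x, rfl⟩ := hg b
    exact ⟨f x, (h _ _).1 (Function.surjInv_eq hf (f x))⟩

section

variable {T : Type u} [Group T]

/-- orbits of `K` on `T ⧸ R` and of `R` on `T ⧸ K` -/
theorem card_orb_symm (K R : Subgroup T) :
    Nat.card (MulAction.orbitRel.Quotient K (T ⧸ R)) = Nat.card (MulAction.orbitRel.Quotient R (T ⧸ K)) := by
  let f : T → MulAction.orbitRel.Quotient K (T ⧸ R) := fun t => Quotient.mk _ (QuotientGroup.mk t)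
  let g : T → MulAction.orbitRel.Quotient R (T ⧸ K) := fun t => Quotient.mk _ (QuotientGroup.mk t⁻¹)
  refine card_eq_of_fibres f g ?_ ?_ ?_
  · intro a
    obtain ⟨b, rfl⟩ := Quotient.mk_surjective a
    obtain ⟨t, rfl⟩ := QuotientGroup.mk_surjective b
    exact ⟨t, rfl⟩
  · intro a
    obtain ⟨b, rfl⟩ := Quotient.mk_surjective a
    obtain ⟨t, rfl⟩ := QuotientGroup.mk_surjective b
    exact ⟨t⁻¹, by simp [g]⟩
  · intro x y
    have h1 : f x = f y ↔ ∃ k ∈ K, y⁻¹ * (k⁻¹ * x) ∈ R := by
      change Quotient.mk _ _ = Quotient.mk _ _ ↔ _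
      rw [Quotient.eq, MulAction.orbitRel_apply]
      constructor
      · rintro ⟨⟨k, hk⟩, h⟩
        have h2 : (QuotientGroup.mk (k * y) : T ⧸ R) = QuotientGroup.mk x := h
        rw [QuotientGroup.eq] at h2
        refine ⟨k, hk, ?_⟩
        have e : y⁻¹ * (k⁻¹ * x) = (k * y)⁻¹ * x := by group
        rw [e]; exact h2
      · rintro ⟨k, hk, h⟩
        refine ⟨⟨k, hk⟩, ?_⟩
        change (QuotientGroup.mk (k * y) : T ⧸ R) = QuotientGroup.mk x
        rw [QuotientGroup.eq]
        have e : y⁻¹ * (k⁻¹ * x) = (k * y)⁻¹ * x := by group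
        rw [← e]; exact h
    have h2 : g x = g y ↔ ∃ r ∈ R, y * (r⁻¹ * x⁻¹) ∈ K := by
      change Quotient.mk _ _ = Quotient.mk _ _ ↔ _
      rw [Quotient.eq, MulAction.orbitRel_apply]
      constructor
      · rintro ⟨⟨r, hr⟩, h⟩
        have h2 : (QuotientGroup.mk (r * y⁻¹) : T ⧸ K) = QuotientGroup.mk x⁻¹ := h
        rw [QuotientGroup.eq] at h2
        refine ⟨r, hr, ?_⟩
        have e : y * (r⁻¹ * x⁻¹) = (r * y⁻¹)⁻¹ * x⁻¹ := by group
        rw [e]; exact h2
      · rintro ⟨r, hr, h⟩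
        refine ⟨⟨r, hr⟩, ?_⟩
        change (QuotientGroup.mk (r * y⁻¹) : T ⧸ K) = QuotientGroup.mk x⁻¹
        rw [QuotientGroup.eq]
        have e : y * (r⁻¹ * x⁻¹) = (r * y⁻¹)⁻¹ * x⁻¹ := by group
        rw [← e]; exact h
    rw [h1, h2]
    constructor
    · rintro ⟨k, hk, h⟩
      refine ⟨(y⁻¹ * (k⁻¹ * x))⁻¹, R.inv_mem h, ?_⟩
      have e : y * ((y⁻¹ * (k⁻¹ * x))⁻¹⁻¹ * x⁻¹) = k⁻¹ := by group
      rw [e]; exact K.inv_mem hk
    · rintro ⟨r, hr, h⟩
      refine ⟨(y * (r⁻¹ * x⁻¹))⁻¹, K.inv_mem h, ?_⟩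
      have e : y⁻¹ * ((y * (r⁻¹ * x⁻¹))⁻¹⁻¹ * x) = r⁻¹ := by group
      rw [e]; exact R.inv_mem hr

/-- the number of orbits of `R` on `T ⧸ K` is odd -/
theorem RO.orb {R : Subgroup T} (h : RO T R) (K : Subgroup T) :
    Odd (Nat.card (MulAction.orbitRel.Quotient R (T ⧸ K))) := by
  rw [← card_orb_symm]
  exact h.odd_orb K

/-- the bijection for a transitive subgroup -/
theorem sub_bij (L R : Subgroup T) (hL : ∀ t : T, ∃ l ∈ L, l⁻¹ * t ∈ R) :
    ∃ f : L ⧸ R.subgroupOf L ≃ T ⧸ R, ∀ (l : L) (ω : L ⧸ R.subgroupOf L), f (l • ω) = (l : T) • f ω := by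
  let f : L ⧸ R.subgroupOf L → T ⧸ R :=
    Quotient.map' (fun n : L => (n : T)) (fun a b hab => by
      rw [QuotientGroup.leftRel_apply] at hab ⊢
      exact hab)
  have hf : Function.Bijective f := by
    constructor
    · intro a b hab
      obtain ⟨a, rfl⟩ := QuotientGroup.mk_surjective a
      obtain ⟨b, rfl⟩ := QuotientGroup.mk_surjective b
      have h2 : (QuotientGroup.mk (a : T) : T ⧸ R) = QuotientGroup.mk (b : T) := hab
      rw [QuotientGroup.eq] at h2 ⊢
      exact h2
    · intro c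
      obtain ⟨g, rfl⟩ := QuotientGroup.mk_surjective c
      obtain ⟨l, hl, hlg⟩ := hL g
      refine ⟨QuotientGroup.mk (⟨l, hl⟩ : L), ?_⟩
      change (QuotientGroup.mk l : T ⧸ R) = QuotientGroup.mk g
      rw [QuotientGroup.eq]
      exact hlg
  refine ⟨Equiv.ofBijective f hf, fun l ω => ?_⟩
  obtain ⟨a, rfl⟩ := QuotientGroup.mk_surjective ω
  rfl

/-- `RO` passes to a subgroup `L` which is transitive on `T ⧸ R` -/
theorem RO.sub {R : Subgroup T} (h : RO T R) (L : Subgroup T) (hL : ∀ t : T, ∃ l ∈ L, l⁻¹ * t ∈ R) :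
    RO L (R.subgroupOf L) := by
  obtain ⟨f, hf⟩ := sub_bij L R hL
  refine ⟨?_, fun x hx => ?_, fun K => ?_⟩
  · have h1 : (R.subgroupOf L).index = R.index := Nat.card_congr f
    rw [h1]; exact h.odd_index
  · have h1 : Nat.card {ω : L ⧸ R.subgroupOf L // x • ω = ω} = Nat.card {ω : T ⧸ R // (x : T) • ω = ω} := by
      refine Nat.card_congr (f.subtypeEquiv fun ω => ?_)
      rw [← hf, f.apply_eq_iff_eq]
    rw [h1]
    exact h.odd_fix _ hx.coe
  · have h1 : Nat.card (MulAction.orbitRel.Quotient K (L ⧸ R.subgroupOf L)) =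
        Nat.card (MulAction.orbitRel.Quotient (K.map L.subtype) (T ⧸ R)) := by
      refine Nat.card_congr (Quotient.congr f fun a b => ?_)
      rw [MulAction.orbitRel_apply, MulAction.orbitRel_apply]
      constructor
      · rintro ⟨⟨l, hl⟩, rfl⟩
        exact ⟨⟨l, ⟨l, hl, rfl⟩⟩, (hf l b).symm⟩
      · rintro ⟨⟨_, ⟨l, hl, rfl⟩⟩, hb⟩
        refine ⟨⟨l, hl⟩, f.injective ?_⟩
        rw [← hb]
        exact hf l b
    rw [h1]
    exact h.odd_orb _

/-- the transitive trick: `R` has an odd number of orbits on `T ⧸ L`, so if it has at most two, `L R = T` -/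
theorem RO.transitive_of_le_two {R : Subgroup T} (h : RO T R) (L : Subgroup T)
    (h2 : Nat.card (MulAction.orbitRel.Quotient R (T ⧸ L)) ≤ 2) (t : T) : ∃ l ∈ L, l⁻¹ * t ∈ R := by
  have h1 := h.odd_orb L
  rw [card_orb_symm] at h1
  have h3 : Nat.card (MulAction.orbitRel.Quotient R (T ⧸ L)) = 1 := by
    obtain ⟨k, hk⟩ := h1
    omega
  rw [← card_orb_symm] at h3
  obtain ⟨h4, -⟩ := Nat.card_eq_one_iff_unique.1 h3
  have h5 : (Quotient.mk _ (QuotientGroup.mk t : T ⧸ R) : MulAction.orbitRel.Quotient L (T ⧸ R)) =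
      Quotient.mk _ (QuotientGroup.mk 1 : T ⧸ R) := Subsingleton.elim _ _
  rw [Quotient.eq, MulAction.orbitRel_apply] at h5
  obtain ⟨⟨l, hl⟩, h6⟩ := h5
  have h7 : (QuotientGroup.mk (l * 1) : T ⧸ R) = QuotientGroup.mk t := h6
  rw [QuotientGroup.eq, mul_one] at h7
  exact ⟨l, hl, h7⟩

/-- the same from a real element with at most two orbits -/
theorem RO.transitive_of_real {R : Subgroup T} [Finite T] (h : RO T R) (L : Subgroup T) {x : T} (hx : IsReal x)
    (h2 : Nat.card (MulAction.orbitRel.Quotient (Subgroup.zpowers x) (T ⧸ L)) ≤ 2) (t : T) :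
    ∃ l ∈ L, l⁻¹ * t ∈ R := by
  refine h.transitive_of_le_two L (le_trans ?_ h2) t
  obtain ⟨g, hg⟩ := h.exists_conj hx
  -- the orbits of `⟨x⟩` map onto the orbits of `R`
  have hle : ∀ z ∈ Subgroup.zpowers x, g * z * g⁻¹ ∈ R := by
    intro z hz
    obtain ⟨k, rfl⟩ := Subgroup.mem_zpowers_iff.1 hz
    have e : g * x ^ k * g⁻¹ = (g * x * g⁻¹) ^ k := (map_zpow (MulAut.conj g).toMonoidHom x k)
    rw [e]
    exact R.zpow_mem hg k
  refine Nat.card_le_card_of_surjective (α := MulAction.orbitRel.Quotient (Subgroup.zpowers x) (T ⧸ L))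
    (Quotient.map' (fun ω => g • ω) ?_) ?_
  · intro a b hab
    rw [MulAction.orbitRel_apply] at hab ⊢
    obtain ⟨⟨z, hz⟩, rfl⟩ := hab
    refine ⟨⟨g * z * g⁻¹, hle z hz⟩, ?_⟩
    change (g * z * g⁻¹) • g • b = g • z • b
    rw [smul_smul, smul_smul, inv_mul_cancel_right]
  · intro a
    obtain ⟨b, rfl⟩ := Quotient.mk_surjective a
    refine ⟨Quotient.mk _ (g⁻¹ • b), ?_⟩
    change Quotient.mk _ (g • g⁻¹ • b) = _
    rw [smul_inv_smul]

end

/-- `RO` together with the congruence modulo `8` for involutions (valid in perfect groups) -/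
structure RO8 (T : Type u) [Group T] (R : Subgroup T) : Prop extends RO T R where
  mod_eight : ∀ t : T, t ^ 2 = 1 → Nat.card {ω : T ⧸ R // t • ω = ω} ≡ R.index [MOD 8]

/-- a row may prove this instead of `Row T` -/
def Row8 (T : Type u) [Group T] : Prop := ∀ R : Subgroup T, RO8 T R → R = ⊤

theorem Row.row8 {T : Type u} [Group T] (h : Row T) : Row8 T := fun R hR => h R hR.toRO

/-- `RO8` passes to a transitive subgroup -/
theorem RO8.sub {T : Type u} [Group T] {R : Subgroup T} (h : RO8 T R) (L : Subgroup T)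
    (hL : ∀ t : T, ∃ l ∈ L, l⁻¹ * t ∈ R) : RO8 L (R.subgroupOf L) := by
  obtain ⟨f, hf⟩ := sub_bij L R hL
  refine ⟨h.toRO.sub L hL, fun t ht => ?_⟩
  have h1 : (R.subgroupOf L).index = R.index := Nat.card_congr f
  have h2 : Nat.card {ω : L ⧸ R.subgroupOf L // t • ω = ω} = Nat.card {ω : T ⧸ R // (t : T) • ω = ω} := by
    refine Nat.card_congr (f.subtypeEquiv fun ω => ?_)
    rw [← hf, f.apply_eq_iff_eq]
  rw [h1, h2]
  exact h.mod_eight t (by rw [← Subgroup.coe_pow, ht]; rfl)

theorem RO8.comap {T : Type u} {S : Type v} [Group T] [Group S] {K : Subgroup S} (e : T ≃* S) (h : RO8 S K) :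
    RO8 T (K.comap e.toMonoidHom) := by
  let f : T ⧸ K.comap e.toMonoidHom ≃ S ⧸ K :=
    Quotient.congr e.toEquiv (fun a b => by
      rw [QuotientGroup.leftRel_apply, QuotientGroup.leftRel_apply]
      simp)
  have hf : ∀ (t : T) (ω : T ⧸ K.comap e.toMonoidHom), f (t • ω) = e t • f ω := by
    intro t ω
    obtain ⟨g, rfl⟩ := QuotientGroup.mk_surjective ω
    change (QuotientGroup.mk (e (t * g)) : S ⧸ K) = QuotientGroup.mk (e t * e g)
    rw [map_mul]
  refine ⟨h.toRO.comap e, fun t ht => ?_⟩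
  have h1 : (K.comap e.toMonoidHom).index = K.index := Nat.card_congr f
  have h2 : Nat.card {ω : T ⧸ K.comap e.toMonoidHom // t • ω = ω} = Nat.card {ω : S ⧸ K // e t • ω = ω} := by
    refine Nat.card_congr (f.subtypeEquiv fun ω => ?_)
    rw [← hf, f.apply_eq_iff_eq]
  rw [h1, h2]
  exact h.mod_eight (e t) (by rw [← map_pow, ht, map_one])

theorem Row8.congr {T : Type u} {S : Type v} [Group T] [Group S] (e : T ≃* S) (h : Row8 T) : Row8 S := by
  intro K hK
  have h1 := h _ (hK.comap e)
  rw [eq_top_iff] at h1 ⊢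
  intro s _
  have h2 := h1 (Subgroup.mem_top (e.symm s))
  simpa using h2

theorem reduce_aux_par
    (hrow : ∀ (T : Type u) [Group T] [Finite T] [IsSimpleGroup T], (¬ ∀ a b : T, a * b = b * a) →
      ∀ (_ : Fintype T) (R : Subgroup T), Par T (T ⧸ R) → R = ⊤) :
    ∀ (n : ℕ) (G : Type u) [Group G] [Fintype G], Nat.card G = n →
      (∀ N : Subgroup G, N.Normal → Odd N.index → N = ⊤) → ∀ H : Subgroup G, Par G (G ⧸ H) → H = ⊤ := by
  intro n
  induction n using Nat.strong_induction_on with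
  | _ n ih =>
  intro G _ _ hn hO H h
  classical
  by_contra hH
  -- `N` minimal normal with `H N = G`
  obtain ⟨N, hN⟩ := (Set.toFinite {N : Subgroup G | N.Normal ∧ H ⊔ N = ⊤}).exists_minimal
    ⟨⊤, inferInstance, sup_top_eq H⟩
  obtain ⟨⟨hNn, hNt⟩, hNmin⟩ := hN
  have hN0 : N ≠ ⊥ := by rintro rfl; rw [sup_bot_eq] at hNt; exact hH hNt
  -- `L` maximal normal below `N`
  obtain ⟨L, hL⟩ := (Set.toFinite {L : Subgroup G | L.Normal ∧ L ≤ N ∧ L ≠ N}).exists_maximal
    ⟨⊥, inferInstance, bot_le, hN0.symm⟩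
  obtain ⟨⟨hLn, hLN, hLne⟩, hLmax⟩ := hL
  have hHL : H ⊔ L ≠ ⊤ := fun h1 => hLne (le_antisymm hLN (hNmin ⟨hLn, h1⟩ hLN))
  by_cases hL0 : L = ⊥
  · subst hL0
    have hmin : ∀ K : Subgroup G, K.Normal → K ≤ N → K = ⊥ ∨ K = N := by
      intro K hK hKN
      by_cases h1 : K = N
      · exact Or.inr h1
      · exact Or.inl (le_bot_iff.1 (hLmax ⟨hK, hKN, h1⟩ bot_le))
    have hro : RO G H := Par.ro H h
    by_cases hab : ∀ a ∈ N, ∀ b ∈ N, a * b = b * a
    · exact abelian_case hO hro hH N hNt hmin hab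
    · by_cases hNtop : N = ⊤
      · subst hNtop
        have hs : IsSimpleGroup G :=
          { exists_pair_ne := by
              obtain ⟨x, -, hx⟩ := (Subgroup.ne_bot_iff_exists_ne_one (H := (⊤ : Subgroup G))).1 hN0 |>.elim
                (fun a ha => (⟨(a : G), trivial, fun h => ha (Subtype.ext h)⟩ : ∃ x : G, True ∧ x ≠ 1))
              exact ⟨x, 1, hx⟩
            eq_bot_or_eq_top_of_normal := fun K hK => hmin K hK le_top }
        exact hH (hrow G (fun hc => hab fun a _ b _ => hc a b) _ H h)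
      · -- induction for `N`
        have hcard : Nat.card N < n := by
          rw [← hn]
          exact lt_of_le_of_ne (Subgroup.card_le_card_group N) (fun h1 => hNtop (Subgroup.eq_top_of_card_eq N h1))
        have hR : twoGen N = ⊥ ∨ twoGen N = N := hmin _ Subgroup.normalClosure_normal (twoGen_le N)
        have hRN : twoGen N = N := by
          refine hR.resolve_left fun h0 => ?_
          -- `N` has odd order, hence is solvable, hence abelian
          have hodd : Odd (Nat.card N) := by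
            by_contra h1
            rw [Nat.not_odd_iff_even, even_iff_two_dvd] at h1
            obtain ⟨x, hx⟩ := exists_prime_orderOf_dvd_card' 2 h1
            have h2 : (x : G) ∈ twoGen N := Subgroup.subset_normalClosure ⟨x.2, 1, by
              rw [pow_one, ← Subgroup.coe_pow, ← hx, pow_orderOf_eq_one]; rfl⟩
            rw [h0, Subgroup.mem_bot] at h2
            have h3 : x = 1 := Subtype.ext h2
            rw [h3, orderOf_one] at hx
            exact absurd hx (by decide)
          have hsol : Group.IsSolvable N := S0205.result hodd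
          have hc : ⁅N, N⁆ = ⊥ ∨ ⁅N, N⁆ = N := hmin _ inferInstance (Subgroup.commutator_le_right N N)
          rcases hc with hc | hc
          · exact hab fun a ha b hb => by
              have h2 : ⁅a, b⁆ ∈ ⁅N, N⁆ := Subgroup.commutator_mem_commutator ha hb
              rw [hc, Subgroup.mem_bot, commutatorElement_eq_one_iff_mul_comm] at h2
              exact h2
          · have hnt : Nontrivial N := (Subgroup.nontrivial_iff_ne_bot N).2 hN0
            have h2 := Group.IsSolvable.commutator_lt_top_of_nontrivial (G := N)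
            refine h2.ne (Subgroup.map_injective N.subtype_injective ?_)
            rw [Subgroup.map_subtype_commutator, hc, ← MonoidHom.range_eq_map, Subgroup.range_subtype]
        have ihN := ih _ hcard N rfl (by
          intro M hM hMo
          have h2 := twoGen_le_map N M hMo
          rw [hRN] at h2
          rw [eq_top_iff]
          intro x _
          obtain ⟨y, hy, hyx⟩ := h2 x.2
          have h3 : y = x := Subtype.ext hyx
          rw [← h3]
          exact hy) (H.subgroupOf N) (h.sub N hNt)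
        rw [Subgroup.subgroupOf_eq_top] at ihN
        exact hH (by rw [← hNt, sup_eq_left.2 ihN])
  · -- pass to `G / L`
    have hcard : Nat.card (G ⧸ L) < n := by
      have h1 := L.card_mul_index
      have h2 : 1 < Nat.card L := (Subgroup.one_lt_card_iff_ne_bot L).2 hL0
      have h3 : 0 < L.index := Nat.pos_of_ne_zero L.index_ne_zero_of_finite
      change L.index < n
      rw [← hn, ← h1]
      nlinarith
    have := Fintype.ofFinite (G ⧸ L)
    have h1 := ih _ hcard (G ⧸ L) rfl (by
      intro K hK hKo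
      have h2 : (K.comap (QuotientGroup.mk' L)).index = K.index :=
        Subgroup.index_comap_of_surjective K (QuotientGroup.mk'_surjective L)
      have h3 := hO (K.comap (QuotientGroup.mk' L)) inferInstance (by rw [h2]; exact hKo)
      rw [eq_top_iff]
      intro x _
      obtain ⟨g, rfl⟩ := QuotientGroup.mk'_surjective L x
      have h4 : g ∈ K.comap (QuotientGroup.mk' L) := by rw [h3]; trivial
      exact h4) _ (h.quot L)
    apply hHL
    have h2 : (H.map (QuotientGroup.mk' L)).comap (QuotientGroup.mk' L) = H ⊔ L := by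
      rw [Subgroup.comap_map_eq, QuotientGroup.ker_mk']
    rw [← h2, h1, Subgroup.comap_top]

/-- **S4785 from the rows.** -/
theorem s4785_of_rows8
    (hrow : ∀ (T : Type u) [Group T] [Finite T] [IsSimpleGroup T], (¬ ∀ a b : T, a * b = b * a) → Row8 T)
    {G : Type u} [Group G] [Fintype G] (hO : ∀ N : Subgroup G, N.Normal → Odd N.index → N = ⊤) (H : Subgroup G)
    (hH : H ≠ ⊤) : ∃ χ : IrrCharacter G, (χ : G → ℂ) ≠ (fun _ => 1) ∧
      (∀ g : G, (starRingEnd ℂ) ((χ : G → ℂ) g) = (χ : G → ℂ) g) ∧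
      ∃ m : ℕ, Odd m ∧ classInner (indFun H (fun _ : H => (1 : ℂ))) (χ : G → ℂ) = m := by
  classical
  have hrow' : ∀ (T : Type u) [Group T] [Finite T] [IsSimpleGroup T], (¬ ∀ a b : T, a * b = b * a) →
      ∀ (_ : Fintype T) (R : Subgroup T), Par T (T ⧸ R) → R = ⊤ := by
    intro T _ _ hs hna hf R hR
    have hperf : commutator T = ⊤ := by
      rcases hs.eq_bot_or_eq_top_of_normal (commutator T) inferInstance with h | h
      · exact absurd (fun a b => by
          have h2 : ⁅a, b⁆ ∈ commutator T :=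
            Subgroup.commutator_mem_commutator (Subgroup.mem_top a) (Subgroup.mem_top b)
          rw [h, Subgroup.mem_bot, commutatorElement_eq_one_iff_mul_comm] at h2
          exact h2) hna
      · exact h
    exact hrow T hna R ⟨Par.ro R hR, fun t ht => Par.mod_eight hperf R hR ht⟩
  by_contra hcon
  have := finite_irr (G := G)
  have := Fintype.ofFinite (IrrCharacter G)
  refine hH (reduce_aux_par hrow' _ G rfl hO H (par_of_irr H fun χ h1 h2 m h3 h4 => hcon ⟨χ, h1, h2, m, h3, h4⟩))


end Cfsg.Agent.H453.OddM
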