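import Cfsg.Agent.ClassicalGeometry.UnitTransv

/-!
# TEAM ODDM (S4785): irreducible groups generated by unitary transvections, odd characteristic: interface

`V = F^n`, `|F| = q²`, `h = hermForm n F q`. `tU q a c` is the transvection `v ↦ v + c h(v,a) a` as an element of `GL_n(F)`
(`a` isotropic). `TM q H a c`: `a` is isotropic, `c + c^q = 0` and `tU q a c ∈ H`.
`Dat q H`: the hypotheses of the theorem. `Nt q H`: the subgroup generated by the transvections in `H`.
-/

set_option autoImplicit false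
set_option linter.unusedSectionVars false

namespace Cfsg.Agent.H453.OddM.Un

open Cfsg Module Cfsg.Agent.LieClassical.HermBasic Cfsg.Agent.ClassicalGeometry.UnitTransv
open scoped Matrix MatrixGroups

variable {F : Type*} [Field F] {n : ℕ}

/-- action on vectors -/
abbrev ap (g : GL (Fin n) F) (v : Fin n → F) : Fin n → F := (g : Matrix (Fin n) (Fin n) F) *ᵥ v

/-- the form -/
abbrev ho (q : ℕ) (u v : Fin n → F) : F := hermForm n F q u v

theorem gl_ext {g g' : GL (Fin n) F} (h : ∀ v, ap g v = ap g' v) : g = g' := by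
  apply Units.ext
  exact Matrix.ext_of_mulVec_single fun i => h _

theorem ap_mul (g h : GL (Fin n) F) (v : Fin n → F) : ap (g * h) v = ap g (ap h v) := by
  rw [ap, ap, ap, Matrix.mulVec_mulVec, Units.val_mul]

theorem ap_one (v : Fin n → F) : ap (1 : GL (Fin n) F) v = v := by
  rw [ap, Units.val_one, Matrix.one_mulVec]

theorem ap_inv_ap (g : GL (Fin n) F) (v : Fin n → F) : ap g⁻¹ (ap g v) = v := by
  rw [← ap_mul, inv_mul_cancel, ap_one]

theorem ap_ap_inv (g : GL (Fin n) F) (v : Fin n → F) : ap g (ap g⁻¹ v) = v := by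
  rw [← ap_mul, mul_inv_cancel, ap_one]

theorem ap_add (g : GL (Fin n) F) (u v : Fin n → F) : ap g (u + v) = ap g u + ap g v := Matrix.mulVec_add _ _ _

theorem ap_sub (g : GL (Fin n) F) (u v : Fin n → F) : ap g (u - v) = ap g u - ap g v := Matrix.mulVec_sub _ _ _

theorem ap_smul (g : GL (Fin n) F) (c : F) (v : Fin n → F) : ap g (c • v) = c • ap g v := Matrix.mulVec_smul _ _ _

theorem ap_zero (g : GL (Fin n) F) : ap g (0 : Fin n → F) = 0 := Matrix.mulVec_zero _

theorem ap_ne_zero {g : GL (Fin n) F} {v : Fin n → F} (hv : v ≠ 0) : ap g v ≠ 0 := fun h => hv (by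
  rw [← ap_inv_ap g v, h, ap_zero])

/-- the transvection `v ↦ v + c h(v,a) a` (junk value `1` if the determinant vanishes) -/
noncomputable def tU (q : ℕ) (a : Fin n → F) (c : F) : GL (Fin n) F := by
  classical
  exact if h : (unitaryTransvection n q a c).det ≠ 0 then Matrix.GeneralLinearGroup.mkOfDetNeZero _ h else 1

theorem coe_tU {q : ℕ} {a : Fin n → F} (ha : ho q a a = 0) (c : F) :
    (tU q a c : Matrix (Fin n) (Fin n) F) = unitaryTransvection n q a c := by
  have h : (unitaryTransvection n q a c).det ≠ 0 := by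
    rw [det_unitaryTransvection ha]
    exact one_ne_zero
  rw [tU, dif_pos h]
  rfl

theorem ap_t {q : ℕ} {a : Fin n → F} (ha : ho q a a = 0) (v : Fin n → F) (c : F) :
    ap (tU q a c) v = v + (c * ho q v a) • a := by
  rw [ap, coe_tU ha, unitaryTransvection_mulVec]

/-- isometries -/
def Iso (q : ℕ) (H : Subgroup (GL (Fin n) F)) : Prop := ∀ g ∈ H, ∀ u v, ho q (ap g u) (ap g v) = ho q u v

/-- the transvection with centre `a` and parameter `c` is in `H` -/
structure TM (q : ℕ) (H : Subgroup (GL (Fin n) F)) (a : Fin n → F) (c : F) : Prop where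
  iso : ho q a a = 0
  tr : c + c ^ q = 0
  mem : tU q a c ∈ H

/-- `a` is the centre of a transvection in `H` -/
def Cen (q : ℕ) (H : Subgroup (GL (Fin n) F)) (a : Fin n → F) : Prop := a ≠ 0 ∧ ∃ c : F, c ≠ 0 ∧ TM q H a c

/-- the subgroup generated by the transvections in `H` -/
def Nt (q : ℕ) (H : Subgroup (GL (Fin n) F)) : Subgroup (GL (Fin n) F) :=
  Subgroup.closure {t | ∃ b c, TM q H b c ∧ t = tU q b c}

/-- the hypotheses: `H ≤ GU_n(q)`, `q` odd, `n ≥ 3`, the transvections in `H` generate an irreducible group -/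
structure Dat (q : ℕ) [Fintype F] (H : Subgroup (GL (Fin n) F)) : Prop where
  card : Fintype.card F = q ^ 2
  le : Iso q H
  two : (2 : F) ≠ 0
  dim : 3 ≤ n
  irr : ∀ W : Submodule F (Fin n → F), (∀ b c, TM q H b c → ∀ v ∈ W, ap (tU q b c) v ∈ W) → W = ⊥ ∨ W = ⊤
  ne : ∃ b, ∃ c : F, b ≠ 0 ∧ c ≠ 0 ∧ TM q H b c

section

variable [Fintype F] {q : ℕ}

theorem t_zero {a : Fin n → F} (ha : ho q a a = 0) : tU q a (0 : F) = 1 := by
  apply gl_ext
  intro v
  rw [ap_t ha, ap_one, zero_mul, zero_smul, add_zero]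

theorem t_add {a : Fin n → F} (ha : ho q a a = 0) (c d : F) : tU q a (c + d) = tU q a c * tU q a d := by
  apply gl_ext
  intro v
  rw [ap_mul, ap_t ha, ap_t ha, ap_t ha]
  simp only [ho, herm_add_left, herm_smul_left]
  rw [show hermForm n F q a a = 0 from ha, mul_zero, add_zero, add_assoc, ← add_smul]
  congr 2
  ring

theorem t_neg {a : Fin n → F} (ha : ho q a a = 0) (c : F) : tU q a (-c) = (tU q a c)⁻¹ := by
  rw [eq_inv_iff_mul_eq_one, ← t_add ha, neg_add_cancel, t_zero ha]

theorem ho_smul {a : Fin n → F} (ha : ho q a a = 0) (s : F) : ho q (s • a) (s • a) = 0 := by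
  simp only [ho, herm_smul_left, herm_smul_right]
  rw [show hermForm n F q a a = 0 from ha, mul_zero, mul_zero]

theorem t_smul {a : Fin n → F} (ha : ho q a a = 0) (s c : F) : tU q (s • a) c = tU q a (s * s ^ q * c) := by
  apply gl_ext
  intro v
  rw [ap_t (ho_smul ha s), ap_t ha, smul_smul]
  simp only [ho, herm_smul_right]
  congr 2
  ring

theorem tU_zero_center (c : F) : tU q (0 : Fin n → F) c = 1 := by
  apply gl_ext
  intro v
  have h0 : ho q (0 : Fin n → F) (0 : Fin n → F) = 0 := herm_zero_left _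
  rw [ap_t h0, ap_one, smul_zero, add_zero]

theorem t_conj {g : GL (Fin n) F} (hg : ∀ u v, ho q (ap g u) (ap g v) = ho q u v) {a : Fin n → F}
    (ha : ho q a a = 0) (c : F) : g * tU q a c * g⁻¹ = tU q (ap g a) c := by
  rw [mul_inv_eq_iff_eq_mul]
  apply gl_ext
  intro v
  have ha' : ho q (ap g a) (ap g a) = 0 := by rw [hg, ha]
  rw [ap_mul, ap_mul, ap_t ha, ap_t ha', ap_add, ap_smul, hg]

/-! ### closure properties of `TM` -/

variable {H : Subgroup (GL (Fin n) F)}

theorem trace_add (hF : Fintype.card F = q ^ 2) {c d : F} (hc : c + c ^ q = 0) (hd : d + d ^ q = 0) :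
    (c + d) + (c + d) ^ q = 0 := by
  rw [add_pow_q hF]
  linear_combination hc + hd

theorem trace_mul (hF : Fintype.card F = q ^ 2) {s c : F} (hs : s ^ q = s) (hc : c + c ^ q = 0) :
    s * c + (s * c) ^ q = 0 := by
  rw [mul_pow, hs]
  linear_combination s * hc

theorem TM.add (hF : Fintype.card F = q ^ 2) {a : Fin n → F} {c d : F} (h : TM q H a c) (h' : TM q H a d) :
    TM q H a (c + d) :=
  ⟨h.iso, trace_add hF h.tr h'.tr, by rw [t_add h.iso]; exact H.mul_mem h.mem h'.mem⟩

theorem TM.neg (hF : Fintype.card F = q ^ 2) {a : Fin n → F} {c : F} (h : TM q H a c) : TM q H a (-c) :=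
  ⟨h.iso, by rw [neg_pow_q hF]; linear_combination -h.tr, by rw [t_neg h.iso]; exact H.inv_mem h.mem⟩

theorem TM.sub (hF : Fintype.card F = q ^ 2) {a : Fin n → F} {c d : F} (h : TM q H a c) (h' : TM q H a d) :
    TM q H a (c - d) := by
  rw [sub_eq_add_neg]
  exact h.add hF (h'.neg hF)

theorem TM.zero (hF : Fintype.card F = q ^ 2) {a : Fin n → F} (ha : ho q a a = 0) : TM q H a 0 :=
  ⟨ha, by rw [zero_pow_q hF, add_zero], by rw [t_zero ha]; exact H.one_mem⟩

theorem norm_fix (hF : Fintype.card F = q ^ 2) (s : F) : (s * s ^ q) ^ q = s * s ^ q := norm_pow_q hF s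

theorem TM.smul_iff (hF : Fintype.card F = q ^ 2) {a : Fin n → F} {s c : F} (hs : s ≠ 0) :
    TM q H (s • a) c ↔ TM q H a (s * s ^ q * c) := by
  have hN : s * s ^ q ≠ 0 := mul_ne_zero hs (pow_ne_zero q hs)
  constructor
  · intro h
    have ha : ho q a a = 0 := by
      have h1 := h.iso
      simp only [ho, herm_smul_left, herm_smul_right] at h1
      rcases mul_eq_zero.1 h1 with h2 | h2
      · exact absurd h2 (by simpa using pow_ne_zero q hs)
      · rcases mul_eq_zero.1 h2 with h3 | h3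
        · exact absurd h3 hs
        · exact h3
    exact ⟨ha, trace_mul hF (norm_pow_q hF s) h.tr, by rw [← t_smul ha]; exact h.mem⟩
  · intro h
    refine ⟨ho_smul h.iso s, ?_, by rw [t_smul h.iso]; exact h.mem⟩
    have h1 := h.tr
    rw [mul_pow, norm_pow_q hF s, ← mul_add] at h1
    exact (mul_eq_zero.1 h1).resolve_left hN

theorem TM.conj (hI : Iso q H) {g : GL (Fin n) F} (hg : g ∈ H) {a : Fin n → F} {c : F} (h : TM q H a c) :
    TM q H (ap g a) c :=
  ⟨by rw [hI g hg]; exact h.iso, h.tr, by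
    rw [← t_conj (hI g hg) h.iso]
    exact H.mul_mem (H.mul_mem hg h.mem) (H.inv_mem hg)⟩

theorem Dat.conj (D : Dat q H) {g : GL (Fin n) F} (hg : g ∈ H) {a : Fin n → F} {c : F} (h : TM q H a c) :
    TM q H (ap g a) c := h.conj D.le hg

theorem ho_swap (hF : Fintype.card F = q ^ 2) (u v : Fin n → F) : ho q v u = (ho q u v) ^ q := herm_swap hF u v

theorem ho_zero_swap (hF : Fintype.card F = q ^ 2) {u v : Fin n → F} (h : ho q u v = 0) : ho q v u = 0 := by
  rw [ho_swap hF, h, zero_pow_q hF]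

theorem ho_ne_swap (hF : Fintype.card F = q ^ 2) {u v : Fin n → F} (h : ho q u v ≠ 0) : ho q v u ≠ 0 := fun h0 =>
  h (ho_zero_swap hF h0)

/-- a parameter which moves something forces the centre to be nonzero -/
theorem TM.cen {a : Fin n → F} {c : F} (hF : Fintype.card F = q ^ 2) (h : TM q H a c) {v : Fin n → F}
    (hv : c * ho q v a ≠ 0) : Cen q H a := by
  refine ⟨?_, c, left_ne_zero_of_mul hv, h⟩
  rintro rfl
  exact hv (by rw [show ho q v (0 : Fin n → F) = 0 from herm_zero_right hF v, mul_zero])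

theorem Cen.conj (hI : Iso q H) {g : GL (Fin n) F} (hg : g ∈ H) {a : Fin n → F} (h : Cen q H a) : Cen q H (ap g a) := by
  obtain ⟨h0, c, hc, h⟩ := h
  exact ⟨ap_ne_zero h0, c, hc, h.conj hI hg⟩

theorem Cen.smul (hF : Fintype.card F = q ^ 2) {x : Fin n → F} (hx : Cen q H x) {s : F} (hs : s ≠ 0) :
    Cen q H (s • x) := by
  obtain ⟨h0, c, hc, h⟩ := hx
  have hN : s * s ^ q ≠ 0 := mul_ne_zero hs (pow_ne_zero q hs)
  have hNq := norm_pow_q hF s
  refine ⟨smul_ne_zero hs h0, (s * s ^ q)⁻¹ * c, mul_ne_zero (inv_ne_zero hN) hc, ?_⟩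
  rw [TM.smul_iff hF hs, mul_inv_cancel_left₀ hN]
  exact h

theorem Cen.iso {x : Fin n → F} (hx : Cen q H x) : ho q x x = 0 := hx.2.choose_spec.2.iso

end

end Cfsg.Agent.H453.OddM.Un
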