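import Cfsg.Agent.H453.OddM.UnA

/-!
# TEAM ODDM (S4785): unitary transvections: connectedness
-/

set_option autoImplicit false
set_option linter.unusedSectionVars false

namespace Cfsg.Agent.H453.OddM.Un

open Cfsg Module Cfsg.Agent.LieClassical.HermBasic Cfsg.Agent.ClassicalGeometry.UnitTransv
open scoped Matrix MatrixGroups

variable {F : Type*} [Field F] {n : ℕ} [Fintype F] {q : ℕ} {H : Subgroup (GL (Fin n) F)}

/-- adjacency -/
def Adj (q : ℕ) (H : Subgroup (GL (Fin n) F)) (a b : Fin n → F) : Prop :=
  Cen q H a ∧ Cen q H b ∧ ho q a b ≠ 0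

theorem Adj.symm (hF : Fintype.card F = q ^ 2) {a b : Fin n → F} (h : Adj q H a b) : Adj q H b a :=
  ⟨h.2.1, h.1, ho_ne_swap hF h.2.2⟩

theorem ho_add_left (u v w : Fin n → F) : ho q (u + v) w = ho q u w + ho q v w := herm_add_left u v w
theorem ho_smul_left (s : F) (u w : Fin n → F) : ho q (s • u) w = s * ho q u w := herm_smul_left s u w
theorem ho_sub_left (u v w : Fin n → F) : ho q (u - v) w = ho q u w - ho q v w := herm_sub_left u v w
theorem ho_neg_left (u w : Fin n → F) : ho q (-u) w = - ho q u w := herm_neg_left u w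
theorem ho_zero_left (w : Fin n → F) : ho q (0 : Fin n → F) w = 0 := herm_zero_left w
theorem ho_add_right (hF : Fintype.card F = q ^ 2) (u v w : Fin n → F) : ho q u (v + w) = ho q u v + ho q u w :=
  herm_add_right hF u v w
theorem ho_sub_right (hF : Fintype.card F = q ^ 2) (u v w : Fin n → F) : ho q u (v - w) = ho q u v - ho q u w :=
  herm_sub_right hF u v w
theorem ho_smul_right (s : F) (u w : Fin n → F) : ho q u (s • w) = s ^ q * ho q u w := herm_smul_right s u w
theorem ho_zero_right (hF : Fintype.card F = q ^ 2) (u : Fin n → F) : ho q u (0 : Fin n → F) = 0 := herm_zero_right hF u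

/-- a vector orthogonal to everything is zero -/
theorem eq_zero_of_ho_left (hF : Fintype.card F = q ^ 2) {w : Fin n → F} (h : ∀ u, ho q u w = 0) : w = 0 := by
  by_contra h0
  obtain ⟨u, hu⟩ := exists_herm_ne_zero hF h0
  exact hu (ho_zero_swap hF (h u))

theorem eq_zero_of_ho_right (hF : Fintype.card F = q ^ 2) {w : Fin n → F} (h : ∀ u, ho q w u = 0) : w = 0 :=
  eq_zero_of_ho_left hF fun u => ho_zero_swap hF (h u)

/-- `h(x, e) ≠ 0` for some `x` in a set if `h(v, e) ≠ 0` for some `v` in its span -/
theorem exists_of_span {S : Set (Fin n → F)} {v e : Fin n → F} (hv : v ∈ Submodule.span F S) (h : ho q v e ≠ 0) :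
    ∃ x ∈ S, ho q x e ≠ 0 := by
  by_contra hcon
  push Not at hcon
  apply h
  induction hv using Submodule.span_induction with
  | mem x hx => exact hcon x hx
  | zero => exact ho_zero_left e
  | add x y _ _ hx hy =>
    rw [ho_add_left]
    by_cases h1 : ho q x e = 0
    · by_cases h2 : ho q y e = 0
      · rw [h1, h2, add_zero]
      · exact absurd (hy h2) h2
    · exact absurd (hx h1) h1
  | smul s x _ hx =>
    rw [ho_smul_left]
    by_cases h1 : ho q x e = 0
    · rw [h1, mul_zero]
    · exact absurd (hx h1) h1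

/-- the graph of centres is connected -/
theorem Dat.connected (D : Dat q H) {a b : Fin n → F} (ha : Cen q H a) (hb : Cen q H b) :
    Relation.ReflTransGen (Adj q H) a b := by
  have hF := D.card
  set W : Submodule F (Fin n → F) := Submodule.span F {y | Relation.ReflTransGen (Adj q H) a y} with hW
  have haW : a ∈ W := Submodule.subset_span Relation.ReflTransGen.refl
  have hcen : ∀ y, Relation.ReflTransGen (Adj q H) a y → Cen q H y := by
    intro y hy
    rcases Relation.ReflTransGen.cases_tail hy with rfl | ⟨z, -, hz⟩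
    · exact ha
    · exact hz.2.1
  rcases D.irr W (by
    intro e c hec v hv
    rw [ap_t hec.iso]
    by_cases h0 : c * ho q v e = 0
    · rw [h0, zero_smul, add_zero]
      exact hv
    · have he := hec.cen hF h0
      refine W.add_mem hv (W.smul_mem _ ?_)
      obtain ⟨y, hy, hye⟩ := exists_of_span hv (right_ne_zero_of_mul h0)
      exact Submodule.subset_span (hy.tail ⟨hcen y hy, he, hye⟩)) with h | h
  · rw [h, Submodule.mem_bot] at haW
    exact absurd haW ha.1
  · obtain ⟨u, hu⟩ := exists_herm_ne_zero hF hb.1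
    have huW : u ∈ W := by rw [h]; trivial
    obtain ⟨y, hy, hyb⟩ := exists_of_span huW (ho_ne_swap hF (q := q) hu)
    exact hy.tail ⟨hcen y hy, hb, hyb⟩

theorem Dat.span_ne_top (D : Dat q H) (a : Fin n → F) : Submodule.span F ({a} : Set (Fin n → F)) ≠ ⊤ := by
  intro h
  have h1 : finrank F (Submodule.span F ({a} : Set (Fin n → F))) ≤ 1 :=
    (finrank_span_le_card (R := F) ({a} : Set (Fin n → F))).trans (by simp)
  rw [h, finrank_top, Module.finrank_fintype_fun_eq_card, Fintype.card_fin] at h1
  have := D.dim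
  omega

theorem Dat.exists_cen_ne (D : Dat q H) {p : Fin n → F} (hp : p ≠ 0) : ∃ w, Cen q H w ∧ ho q p w ≠ 0 := by
  have hF := D.card
  by_contra hcon
  push Not at hcon
  rcases D.irr (Submodule.span F {p}) (by
    intro e c hec v hv
    rw [ap_t hec.iso]
    by_cases h0 : c * ho q v e = 0
    · rw [h0, zero_smul, add_zero]
      exact hv
    · exfalso
      obtain ⟨s, rfl⟩ := Submodule.mem_span_singleton.1 hv
      have h1 := hcon e (hec.cen hF h0)
      rw [ho_smul_left, h1, mul_zero, mul_zero] at h0
      exact h0 rfl) with h | h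
  · exact hp (Submodule.span_singleton_eq_bot.1 h)
  · exact D.span_ne_top p h

theorem Dat.exists_adj (D : Dat q H) {a : Fin n → F} (ha : Cen q H a) : ∃ b, Adj q H a b := by
  obtain ⟨b, hb, hab⟩ := D.exists_cen_ne ha.1
  exact ⟨b, ha, hb, hab⟩

/-- the centres span -/
theorem Dat.span_cen (D : Dat q H) : Submodule.span F {x | Cen q H x} = ⊤ := by
  have hF := D.card
  rcases D.irr (Submodule.span F {x | Cen q H x}) (by
    intro e c hec v hv
    rw [ap_t hec.iso]
    by_cases h0 : c * ho q v e = 0
    · rw [h0, zero_smul, add_zero]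
      exact hv
    · exact Submodule.add_mem _ hv (Submodule.smul_mem _ _ (Submodule.subset_span (hec.cen hF h0)))) with h | h
  · exfalso
    obtain ⟨b, c, hb, hc, hbc⟩ := D.ne
    have h1 : b ∈ Submodule.span F {x | Cen q H x} := Submodule.subset_span ⟨hb, c, hc, hbc⟩
    rw [h, Submodule.mem_bot] at h1
    exact hb h1
  · exact h

/-- a subspace containing a centre and invariant in the sense "every centre not orthogonal to it is in it" is everything -/
theorem Dat.top_of_closed (D : Dat q H) {W : Submodule F (Fin n → F)} (hne : W ≠ ⊥)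
    (h : ∀ e, Cen q H e → (∃ v ∈ W, ho q v e ≠ 0) → e ∈ W) : W = ⊤ := by
  refine (D.irr W ?_).resolve_left hne
  intro e c hec v hv
  rw [ap_t hec.iso]
  by_cases h0 : c * ho q v e = 0
  · rw [h0, zero_smul, add_zero]
    exact hv
  · exact W.add_mem hv (W.smul_mem _ (h e (hec.cen D.card h0) ⟨v, hv, right_ne_zero_of_mul h0⟩))

end Cfsg.Agent.H453.OddM.Un
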