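import Cfsg.Agent.H453.OddM.UnB

/-!
# TEAM ODDM (S4785): unitary transvections: the multiplier field and the rational structure
-/

set_option autoImplicit false
set_option linter.unusedSectionVars false

namespace Cfsg.Agent.H453.OddM.Un

open Cfsg Module Cfsg.Agent.LieClassical.HermBasic Cfsg.Agent.ClassicalGeometry.UnitTransv
open scoped Matrix MatrixGroups

variable {F : Type*} [Field F] {n : ℕ} [Fintype F] {q : ℕ} {H : Subgroup (GL (Fin n) F)}

/-- the conclusion of PART C -/
def Good (q : ℕ) (H : Subgroup (GL (Fin n) F)) : Prop :=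
  ∀ (a b : Fin n → F) (c d : F), ho q a b ≠ 0 → c ≠ 0 → d ≠ 0 → TM q H a c → TM q H b d →
    TM q H a (c * (c * d * (ho q a b * ho q b a)))

/-- closed under multiplication by `r ≠ 0` implies closed under division by `r` -/
theorem div_closed {P : F → Prop} {r : F} (hr : r ≠ 0) (h : ∀ s, P s → P (r * s)) {s : F} (hs : P s) :
    P (r⁻¹ * s) := by
  have h1 : ∀ n : ℕ, P (r ^ n * s) := by
    intro n
    induction n with
    | zero => rwa [pow_zero, one_mul]
    | succ n ih =>
      rw [pow_succ', mul_assoc]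
      exact h _ ih
  have h2 : r⁻¹ = r ^ (Fintype.card F - 2) := by
    have h3 := FiniteField.pow_card_sub_one_eq_one r hr
    have h4 : Fintype.card F - 1 = (Fintype.card F - 2) + 1 := by
      have := Fintype.one_lt_card (α := F)
      omega
    rw [h4, pow_succ] at h3
    exact (eq_inv_of_mul_eq_one_left h3).symm
  rw [h2]
  exact h1 _

/-- closure properties of the transvections with a given centre -/
theorem Dat.mul_mem_edge (D : Dat q H) (G : Good q H) {x y : Fin n → F} (hxy : ho q x y ≠ 0) {c d : F} (hc : c ≠ 0)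
    (hd : d ≠ 0) (hx : TM q H x c) (hy : TM q H y d) {s t : F} (hs : TM q H x (s * c))
    (ht : TM q H x (t * c)) : TM q H x (s * t * c) := by
  have hF := D.card
  set φ := ho q x y * ho q y x with hφ
  have hφ0 : φ ≠ 0 := mul_ne_zero hxy (ho_ne_swap hF hxy)
  set γ := c * d * φ with hγ
  have hγ0 : γ ≠ 0 := mul_ne_zero (mul_ne_zero hc hd) hφ0
  have hsq : ∀ u : F, TM q H x (u * c) → TM q H x (u ^ 2 * γ * c) := by
    intro u hu
    by_cases hu0 : u = 0
    · rw [hu0, zero_pow two_ne_zero, zero_mul, zero_mul]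
      exact TM.zero hF hx.iso
    · have h1 := G x y (u * c) d hxy (mul_ne_zero hu0 hc) hd hu hy
      have e1 : u * c * (u * c * d * (ho q x y * ho q y x)) = u ^ 2 * γ * c := by rw [hγ, hφ]; ring
      rwa [e1] at h1
  have hprod : ∀ u v : F, TM q H x (u * c) → TM q H x (v * c) → TM q H x (u * v * γ * c) := by
    intro u v hu hv
    have h1 : TM q H x ((u + v) * c) := by
      rw [add_mul]
      exact hu.add hF hv
    have h2 := ((hsq _ h1).sub hF (hsq u hu)).sub hF (hsq v hv)
    have e1 : (u + v) ^ 2 * γ * c - u ^ 2 * γ * c - v ^ 2 * γ * c = 2 * (u * v * γ * c) := by ring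
    rw [e1] at h2
    have h3 := div_closed (P := fun w => TM q H x w) D.two (fun w hw => by
      rw [two_mul]
      exact hw.add hF hw) h2
    change TM q H x (2⁻¹ * (2 * (u * v * γ * c))) at h3
    rwa [inv_mul_cancel_left₀ D.two] at h3
  have hγdiv : TM q H x (γ⁻¹ * (t * c)) := by
    refine div_closed (P := fun w => TM q H x w) hγ0 (fun w hw => ?_) ht
    have e1 : w = (w / c) * c := by field_simp
    rw [e1] at hw
    have h1 := hprod (w / c) 1 hw (by rwa [one_mul])
    have e2 : w / c * 1 * γ * c = γ * w := by field_simp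
    rwa [e2] at h1
  have e1 : γ⁻¹ * (t * c) = (γ⁻¹ * t) * c := by ring
  rw [e1] at hγdiv
  have h1 := hprod s (γ⁻¹ * t) hs hγdiv
  have e2 : s * (γ⁻¹ * t) * γ * c = s * t * c := by field_simp
  rwa [e2] at h1

theorem Dat.edge_transfer (D : Dat q H) (G : Good q H) {x y : Fin n → F} (hxy : ho q x y ≠ 0) {c d : F}
    (hc : c ≠ 0) (hd : d ≠ 0) (hx : TM q H x c) (hy : TM q H y d) {s : F} (hs : TM q H x (s * c)) :
    TM q H y (s * d) := by
  have hF := D.card
  by_cases hs0 : s = 0
  · rw [hs0, zero_mul]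
    exact TM.zero hF hy.iso
  have hyx : ho q y x ≠ 0 := ho_ne_swap hF hxy
  set φ := ho q y x * ho q x y with hφ
  have hφ0 : φ ≠ 0 := mul_ne_zero hyx hxy
  set γ := d * c * φ with hγ
  have hγ0 : γ ≠ 0 := mul_ne_zero (mul_ne_zero hd hc) hφ0
  have h1 : TM q H y (γ * d) := by
    have := G y x d c hyx hd hc hy hx
    rwa [mul_comm] at this
  have h2 : TM q H y (s * γ * d) := by
    have := G y x d (s * c) hyx hd (mul_ne_zero hs0 hc) hy hs
    have e1 : d * (d * (s * c) * (ho q y x * ho q x y)) = s * γ * d := by rw [hγ, hφ]; ring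
    rwa [e1] at this
  have h3 : TM q H y (γ⁻¹ * (s * γ * d)) := by
    refine div_closed (P := fun w => TM q H y w) hγ0 (fun w hw => ?_) h2
    have e1 : w = (w / d) * d := by field_simp
    rw [e1] at hw
    have h4 := D.mul_mem_edge G hyx hd hc hy hx h1 hw
    have e2 : γ * (w / d) * d = γ * w := by field_simp
    rwa [e2] at h4
  have e3 : γ⁻¹ * (s * γ * d) = s * d := by field_simp
  rwa [e3] at h3

/-- the multiplier field -/
def In (q : ℕ) (H : Subgroup (GL (Fin n) F)) (s : F) : Prop :=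
  ∀ (x : Fin n → F) (c : F), TM q H x c → TM q H x (s * c)

/-- the multiplier field as a subfield -/
def mf (hF : Fintype.card F = q ^ 2) (H : Subgroup (GL (Fin n) F)) : Subfield F where
  carrier := {s | In q H s}
  mul_mem' {s t} hs ht x c h := by
    rw [mul_assoc]
    exact hs x _ (ht x c h)
  one_mem' x c h := by rwa [one_mul]
  add_mem' {s t} hs ht x c h := by
    rw [add_mul]
    exact (hs x c h).add hF (ht x c h)
  zero_mem' x c h := by
    rw [zero_mul]
    exact TM.zero hF h.iso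
  neg_mem' {s} hs x c h := by
    rw [neg_mul]
    exact (hs x c h).neg hF
  inv_mem' s hs x c h := by
    by_cases hs0 : s = 0
    · rw [hs0, inv_zero, zero_mul]
      exact TM.zero hF h.iso
    · exact div_closed (P := fun w => TM q H x w) hs0 (fun w hw => hs x w hw) h

theorem mem_mf {hF : Fintype.card F = q ^ 2} {s : F} : s ∈ mf hF H ↔ In q H s := Iff.rfl

/-- the multiplier field is fixed by the involution -/
theorem Dat.mf_fix (D : Dat q H) {s : F} (hs : s ∈ mf D.card H) : s ^ q = s := by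
  obtain ⟨b, c, -, hc, hbc⟩ := D.ne
  have h1 := hbc.tr
  have h2 := (hs b c hbc).tr
  rw [mul_pow] at h2
  have h3 : c * (s - s ^ q) = 0 := by linear_combination h2 - s ^ q * h1
  exact (sub_eq_zero.1 ((mul_eq_zero.1 h3).resolve_left hc)).symm

theorem Dat.in_of (D : Dat q H) (G : Good q H) {x : Fin n → F} (hx0 : x ≠ 0) {c s : F} (hc : c ≠ 0)
    (hx : TM q H x c) (hs : TM q H x (s * c)) : s ∈ mf D.card H := by
  have hF := D.card
  have key : ∀ y, Relation.ReflTransGen (Adj q H) x y → y = x ∨ ∀ d, d ≠ 0 → TM q H y d → TM q H y (s * d) := by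
    intro y hy
    induction hy with
    | refl => exact Or.inl rfl
    | tail _ hyz ih =>
      right
      intro d hd hdH
      rcases ih with rfl | ih
      · exact D.edge_transfer G hyz.2.2 hc hd hx hdH hs
      · obtain ⟨⟨-, c', hc', hc'H⟩, -, hφ⟩ := hyz
        exact D.edge_transfer G hφ hc' hd hc'H hdH (ih c' hc' hc'H)
  have hxc : Cen q H x := ⟨hx0, c, hc, hx⟩
  have key2 : ∀ y, Cen q H y → ∀ d, d ≠ 0 → TM q H y d → TM q H y (s * d) := by
    intro y hyc d hd hdH
    rcases key y (D.connected hxc hyc) with rfl | h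
    · obtain ⟨z, hz⟩ := D.exists_adj hxc
      obtain ⟨-, ⟨-, e, he, heH⟩, hφ⟩ := hz
      have h1 := D.edge_transfer G hφ hc he hx heH hs
      exact D.edge_transfer G (ho_ne_swap hF hφ) he hd heH hdH h1
    · exact h d hd hdH
  have hsq : s ^ q = s := by
    have h1 := hx.tr
    have h2 := hs.tr
    rw [mul_pow] at h2
    have h3 : c * (s - s ^ q) = 0 := by linear_combination h2 - s ^ q * h1
    exact (sub_eq_zero.1 ((mul_eq_zero.1 h3).resolve_left hc)).symm
  intro y d hdH
  by_cases hd : d = 0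
  · rw [hd, mul_zero]
    exact TM.zero hF hdH.iso
  by_cases hy : y = 0
  · subst hy
    exact ⟨hdH.iso, trace_mul hF hsq hdH.tr, by rw [tU_zero_center]; exact H.one_mem⟩
  exact key2 y ⟨hy, d, hd, hdH⟩ d hd hdH

/-- the values on edges -/
theorem Dat.val_mem (D : Dat q H) (G : Good q H) {x y : Fin n → F} {c d : F} (hx : TM q H x c)
    (hy : TM q H y d) : c * d * (ho q x y * ho q y x) ∈ mf D.card H := by
  by_cases h0 : c * d * (ho q x y * ho q y x) = 0
  · rw [h0]
    exact (mf D.card H).zero_mem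
  have hc : c ≠ 0 := fun h => h0 (by rw [h]; ring)
  have hd : d ≠ 0 := fun h => h0 (by rw [h]; ring)
  have hφ : ho q x y ≠ 0 := fun h => h0 (by rw [h]; ring)
  have hx0 : x ≠ 0 := by
    rintro rfl
    exact hφ (ho_zero_left y)
  refine D.in_of G hx0 hc hx ?_
  have h1 := G x y c d hφ hc hd hx hy
  rwa [mul_comm] at h1

/-! ### The rational structure -/

/-- the normalised centres -/
def Om (q : ℕ) (H : Subgroup (GL (Fin n) F)) (κ : F) (x : Fin n → F) : Prop := x ≠ 0 ∧ TM q H x κ

/-- the relation -/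
def Rr (q : ℕ) (H : Subgroup (GL (Fin n) F)) (L : Subfield F) (κ : F) (x y : Fin n → F) : Prop :=
  Om q H κ x ∧ Om q H κ y ∧ κ * ho q x y ∈ L ∧ κ * ho q x y ≠ 0

variable {L : Subfield F} {κ : F}

theorem kho_swap (hF : Fintype.card F = q ^ 2) (hκ : κ + κ ^ q = 0) (x y : Fin n → F) :
    κ * ho q y x = -(κ * ho q x y) ^ q := by
  rw [mul_pow, ← ho_swap hF x y]
  linear_combination (ho q y x) * hκ

theorem kho_swap_mem (hF : Fintype.card F = q ^ 2) (hκ : κ + κ ^ q = 0) {x y : Fin n → F}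
    (h : κ * ho q x y ∈ L) : κ * ho q y x ∈ L := by
  rw [kho_swap hF hκ x y]
  exact L.neg_mem (pow_mem h q)

theorem Rr.symm (hF : Fintype.card F = q ^ 2) {x y : Fin n → F} (h : Rr q H L κ x y) : Rr q H L κ y x := by
  obtain ⟨h1, h2, h3, h4⟩ := h
  exact ⟨h2, h1, kho_swap_mem hF h1.2.tr h3,
    mul_ne_zero (left_ne_zero_of_mul h4) (ho_ne_swap hF (right_ne_zero_of_mul h4))⟩

theorem Dat.sq_mem (D : Dat q H) (G : Good q H) {x y : Fin n → F} (hx : Om q H κ x) (hy : Om q H κ y) :
    (κ * ho q x y) * (κ * ho q y x) ∈ mf D.card H := by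
  have h1 := D.val_mem G hx.2 hy.2
  have e : κ * κ * (ho q x y * ho q y x) = (κ * ho q x y) * (κ * ho q y x) := by ring
  rwa [e] at h1

/-- moving a normalised centre -/
theorem Dat.om_move (D : Dat q H) {y z : Fin n → F} (hy : Om q H κ y) (hz : Om q H κ z) {s : F}
    (hs : s ∈ mf D.card H) : Om q H κ (z + (s * (κ * ho q z y)) • y) := by
  have h1 := hs y κ hy.2
  have h2 : ap (tU q y (s * κ)) z = z + (s * (κ * ho q z y)) • y := by
    rw [ap_t hy.2.iso]
    congr 2
    ring
  rw [← h2]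
  exact ⟨ap_ne_zero hz.1, D.conj h1.mem hz.2⟩

/-- the triangle property -/
def Tri (q : ℕ) (H : Subgroup (GL (Fin n) F)) (L : Subfield F) (κ : F) : Prop :=
  ∀ x y z, Rr q H L κ x y → Rr q H L κ y z → κ * ho q x z ∈ L

theorem Dat.three (D : Dat q H) (hL : mf D.card H ≤ L) (hT : Tri q H L κ) {x y z w : Fin n → F}
    (hxy : Rr q H L κ x y) (hyz : Rr q H L κ y z) (hzw : Rr q H L κ z w) :
    ∃ u, Rr q H L κ x u ∧ Rr q H L κ u w := by
  have hF := D.card
  by_cases h0 : κ * ho q x z = 0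
  swap
  · exact ⟨z, ⟨hxy.1, hyz.2.1, hT x y z hxy hyz, h0⟩, hzw⟩
  have hyw := hT y z w hyz hzw
  obtain ⟨hx, hy, h1, h2⟩ := hxy
  obtain ⟨-, -, h3', h4'⟩ := hyz
  have hzy := Rr.symm hF ⟨hy, hzw.1, h3', h4'⟩
  obtain ⟨-, -, h3, h4⟩ := hzy
  obtain ⟨hz, hw, h5, h6⟩ := hzw
  have hκt : κ + κ ^ q = 0 := hx.2.tr
  have hκ : κ ≠ 0 := left_ne_zero_of_mul h2
  have h0' : ho q x z = 0 := (mul_eq_zero.1 h0).resolve_left hκ
  have main : ∀ s : F, s ∈ mf D.card H → s ≠ 0 →
      κ * ho q z w + s * (κ * ho q z y) * (κ * ho q y w) ≠ 0 → ∃ u, Rr q H L κ x u ∧ Rr q H L κ u w := by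
    intro s hs hs0 hne
    have hu := D.om_move hy hz hs
    have hsq := D.mf_fix hs
    have e1 : κ * ho q x (z + (s * (κ * ho q z y)) • y) = -(s * (κ * ho q y z) * (κ * ho q x y)) := by
      rw [ho_add_right hF, ho_smul_right, h0', mul_pow, hsq, kho_swap hF hκt z y]
      ring
    have e2 : κ * ho q (z + (s * (κ * ho q z y)) • y) w = κ * ho q z w + s * (κ * ho q z y) * (κ * ho q y w) := by
      rw [ho_add_left, ho_smul_left]
      ring
    refine ⟨_, ⟨hx, hu, ?_, ?_⟩, ⟨hu, hw, ?_, ?_⟩⟩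
    · rw [e1]
      exact L.neg_mem (L.mul_mem (L.mul_mem (hL hs) h3') h1)
    · rw [e1]
      exact neg_ne_zero.2 (mul_ne_zero (mul_ne_zero hs0 h4') h2)
    · rw [e2]
      exact L.add_mem h5 (L.mul_mem (L.mul_mem (hL hs) h3) hyw)
    · rw [e2]
      exact hne
  by_cases h7 : κ * ho q z w + 1 * (κ * ho q z y) * (κ * ho q y w) = 0
  · refine main (-1) ((mf D.card H).neg_mem (mf D.card H).one_mem) (neg_ne_zero.2 one_ne_zero) ?_
    intro h8
    apply h6
    have h9 : 2 * (κ * ho q z w) = 0 := by linear_combination h7 + h8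
    exact (mul_eq_zero.1 h9).resolve_left D.two
  · exact main 1 (mf D.card H).one_mem one_ne_zero h7

theorem Dat.diam (D : Dat q H) (hL : mf D.card H ≤ L) (hT : Tri q H L κ) {x y : Fin n → F}
    (h : Relation.ReflTransGen (Rr q H L κ) x y) :
    y = x ∨ Rr q H L κ x y ∨ ∃ u, Rr q H L κ x u ∧ Rr q H L κ u y := by
  induction h with
  | refl => exact Or.inl rfl
  | tail _ hyz ih =>
    rcases ih with rfl | ih | ⟨u, h1, h2⟩
    · exact Or.inr (Or.inl hyz)
    · exact Or.inr (Or.inr ⟨_, ih, hyz⟩)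
    · obtain ⟨v, h3, h4⟩ := D.three hL hT h1 h2 hyz
      exact Or.inr (Or.inr ⟨v, h3, h4⟩)

theorem Dat.val_of_path (D : Dat q H) (hL : mf D.card H ≤ L) (hT : Tri q H L κ) {x y : Fin n → F}
    (hx : Om q H κ x) (h : Relation.ReflTransGen (Rr q H L κ) x y) : κ * ho q x y ∈ L := by
  rcases D.diam hL hT h with rfl | h | ⟨u, h1, h2⟩
  · rw [hx.2.iso, mul_zero]
    exact L.zero_mem
  · exact h.2.2.1
  · exact hT x u y h1 h2

theorem path_symm (hF : Fintype.card F = q ^ 2) {x y : Fin n → F}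
    (h : Relation.ReflTransGen (Rr q H L κ) x y) : Relation.ReflTransGen (Rr q H L κ) y x := by
  induction h with
  | refl => exact Relation.ReflTransGen.refl
  | tail _ hyz ih => exact Relation.ReflTransGen.head (Rr.symm hF hyz) ih

theorem om_of_path {x y : Fin n → F} (hx : Om q H κ x) (h : Relation.ReflTransGen (Rr q H L κ) x y) :
    Om q H κ y := by
  rcases Relation.ReflTransGen.cases_tail h with rfl | ⟨z, -, hz⟩
  · exact hx
  · exact hz.2.1

/-- transvections in `H` preserve the component -/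
theorem Dat.path_move (D : Dat q H) (G : Good q H) (hκ : κ ≠ 0) {a x b : Fin n → F} {c : F} (ha : Om q H κ a)
    (hx : Relation.ReflTransGen (Rr q H L κ) a x) (hb : TM q H b c) :
    Relation.ReflTransGen (Rr q H L κ) a (ap (tU q b c) x) := by
  have hF := D.card
  have hxo := om_of_path ha hx
  by_cases h0 : c * ho q x b = 0
  · rw [ap_t hb.iso, h0, zero_smul, add_zero]
    exact hx
  have hc : c ≠ 0 := left_ne_zero_of_mul h0
  have hxb : ho q x b ≠ 0 := right_ne_zero_of_mul h0
  have hbx : ho q b x ≠ 0 := ho_ne_swap hF hxb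
  have hb0 : b ≠ 0 := by
    rintro rfl
    exact hxb (ho_zero_right hF x)
  set lam : F := ((κ * ho q x b)⁻¹) ^ q with hlam
  have hlam0 : lam ≠ 0 := pow_ne_zero q (inv_ne_zero (mul_ne_zero hκ hxb))
  have hlamq : lam ^ q = (κ * ho q x b)⁻¹ := by rw [hlam, pow_q_pow_q hF]
  have hlam' : lam = -(κ * ho q b x)⁻¹ := by
    rw [hlam, inv_pow, kho_swap hF hxo.2.tr x b, inv_neg, neg_neg]
  -- the normalised multiple of `b`
  have hv := D.val_mem G hxo.2 hb
  have hv0 : κ * c * (ho q x b * ho q b x) ≠ 0 := mul_ne_zero (mul_ne_zero hκ hc) (mul_ne_zero hxb hbx)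
  have hvi := (mf D.card H).inv_mem hv
  have hb' : Om q H κ (lam • b) := by
    refine ⟨smul_ne_zero hlam0 hb0, ?_⟩
    rw [TM.smul_iff hF hlam0]
    have h1 := (hvi b c hb).neg hF
    have e1 : -((κ * c * (ho q x b * ho q b x))⁻¹ * c) = lam * lam ^ q * κ := by
      rw [hlamq, hlam']
      field_simp
    rwa [e1] at h1
  have hg : κ * ho q x (lam • b) = 1 := by
    rw [ho_smul_right, hlamq]
    field_simp
  have hxb' : Rr q H L κ x (lam • b) := ⟨hxo, hb', by rw [hg]; exact L.one_mem, by rw [hg]; exact one_ne_zero⟩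
  have hx' : Om q H κ (ap (tU q b c) x) := ⟨ap_ne_zero hxo.1, D.conj hb.mem hxo.2⟩
  have hg' : κ * ho q (ap (tU q b c) x) (lam • b) = 1 := by
    have hbb : ho q b (lam • b) = 0 := by rw [ho_smul_right, hb.iso, mul_zero]
    rw [ap_t hb.iso, ho_add_left, ho_smul_left, hbb, mul_zero, add_zero, hg]
  have h2 : Rr q H L κ (ap (tU q b c) x) (lam • b) :=
    ⟨hx', hb', by rw [hg']; exact L.one_mem, by rw [hg']; exact one_ne_zero⟩
  exact (hx.tail hxb').tail (Rr.symm hF h2)

end Cfsg.Agent.H453.OddM.Un
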