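import Cfsg.Agent.H453.OddM.UnD
import Cfsg.Prelude.Def_GeometricClasses

/-!
# TEAM ODDM (S4785): unitary transvections: the field `K`, the rational basis and the reduction to full root groups
-/

set_option autoImplicit false
set_option linter.unusedSectionVars false

namespace Cfsg.Agent.H453.OddM.Un

open Cfsg Module Cfsg.Agent.LieClassical.HermBasic Cfsg.Agent.ClassicalGeometry.UnitTransv
open scoped Matrix MatrixGroups

variable {F : Type*} [Field F] {n : ℕ} [Fintype F] {q : ℕ} {H : Subgroup (GL (Fin n) F)}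

/-- **The rational basis.** -/
theorem Dat.rational (D : Dat q H) (G : Good q H) {L : Subfield F} {κ : F} {a : Fin n → F} (hκ : κ ≠ 0)
    (ha : Om q H κ a) (hL : mf D.card H ≤ L) (hT : Tri q H L κ) :
    ∃ B : GL (Fin n) F, ∀ g ∈ Nt q H, ∀ i j,
      ((B : Matrix (Fin n) (Fin n) F) * g * ((B⁻¹ : GL (Fin n) F) : Matrix (Fin n) (Fin n) F)) i j ∈ L := by
  classical
  have hF := D.card
  set O : Set (Fin n → F) := {x | Relation.ReflTransGen (Rr q H L κ) a x} with hO
  -- the component spans
  have hspan : Submodule.span F O = ⊤ := by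
    rcases D.irr (Submodule.span F O) (by
      intro b c hbc v hv
      induction hv using Submodule.span_induction with
      | mem x hx => exact Submodule.subset_span (D.path_move G hκ ha hx hbc)
      | zero => rw [ap_zero]; exact Submodule.zero_mem _
      | add x y _ _ hx hy => rw [ap_add]; exact Submodule.add_mem _ hx hy
      | smul s x _ hx => rw [ap_smul]; exact Submodule.smul_mem _ _ hx) with h | h
    · exfalso
      have h1 : a ∈ Submodule.span F O := Submodule.subset_span Relation.ReflTransGen.refl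
      rw [h, Submodule.mem_bot] at h1
      exact ha.1 h1
    · exact h
  -- a basis in the component
  obtain ⟨s, hsO, hss, hli⟩ := exists_linearIndependent F O
  rw [hspan] at hss
  have hsfin : Finite s := hli.finite
  let bs : Basis s F (Fin n → F) := Basis.mk hli (by rw [Subtype.range_coe, hss])
  have : Fintype s := Fintype.ofFinite s
  have hcard : Fintype.card s = Fintype.card (Fin n) := by
    rw [← Module.finrank_eq_card_basis bs, Module.finrank_fintype_fun_eq_card]
  let e : s ≃ Fin n := Fintype.equivOfCardEq hcard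
  let w : Basis (Fin n) F (Fin n → F) := bs.reindex e
  have hw : ∀ i, w i ∈ O := by
    intro i
    rw [Basis.reindex_apply, Basis.mk_apply]
    exact hsO (e.symm i).2
  -- invariance
  have hinv : ∀ g ∈ Nt q H, ∀ x ∈ O, ap g x ∈ O := by
    intro g hg
    induction hg using Subgroup.closure_induction with
    | mem t ht =>
      obtain ⟨b, c, hbc, rfl⟩ := ht
      intro x hx
      exact D.path_move G hκ ha hx hbc
    | one => intro x hx; rwa [ap_one]
    | mul g h _ _ hg hh => intro x hx; rw [ap_mul]; exact hg _ (hh x hx)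
    | inv g _ hg =>
      intro x hx
      have hk : ∀ k : ℕ, ap (g ^ k) x ∈ O := by
        intro k
        induction k with
        | zero => rwa [pow_zero, ap_one]
        | succ k ih =>
          rw [pow_succ', ap_mul]
          exact hg _ ih
      have h1 : g⁻¹ = g ^ (orderOf g - 1) := by
        symm
        apply eq_inv_of_mul_eq_one_left
        rw [← pow_succ, Nat.sub_add_cancel (orderOf_pos g), pow_orderOf_eq_one]
      rw [h1]
      exact hk _
  have hval : ∀ x ∈ O, ∀ y ∈ O, κ * ho q x y ∈ L := by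
    intro x hx y hy
    exact D.val_of_path hL hT (om_of_path ha hx) ((path_symm hF hx).trans hy)
  -- the matrices
  let P : Matrix (Fin n) (Fin n) F := Matrix.of fun i j => w j i
  have hPj : ∀ j, P *ᵥ (Pi.single j 1) = w j := by
    intro j
    funext i
    rw [Matrix.mulVec_single_one]
    rfl
  have hPdet : P.det ≠ 0 := by
    intro h0
    obtain ⟨c, hc0, hc⟩ := (Matrix.exists_mulVec_eq_zero_iff (M := P)).2 h0
    apply hc0
    have h1 : ∑ j, c j • w j = 0 := by
      rw [← hc]
      funext i
      rw [Finset.sum_apply, Matrix.mulVec, dotProduct]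
      refine Finset.sum_congr rfl fun j _ => ?_
      rw [Pi.smul_apply, smul_eq_mul, mul_comm]
      rfl
    have h2 := Fintype.linearIndependent_iff.1 w.linearIndependent c h1
    funext j
    exact h2 j
  let B : GL (Fin n) F := (Matrix.GeneralLinearGroup.mkOfDetNeZero P hPdet)⁻¹
  refine ⟨B, fun g hg => ?_⟩
  have hBi : ((B⁻¹ : GL (Fin n) F) : Matrix (Fin n) (Fin n) F) = P := by
    rw [inv_inv]
    rfl
  set S : Matrix (Fin n) (Fin n) F :=
    (B : Matrix (Fin n) (Fin n) F) * g * ((B⁻¹ : GL (Fin n) F) : Matrix (Fin n) (Fin n) F) with hS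
  have hPS : P * S = g * P := by
    have h1 : P * (B : Matrix (Fin n) (Fin n) F) = 1 := by
      rw [← hBi, ← Units.val_mul, inv_mul_cancel, Units.val_one]
    rw [hS, hBi, ← mul_assoc, ← mul_assoc, h1, one_mul]
  -- functionals
  let Ψ : Matrix (Fin n) (Fin n) F := Matrix.of fun i j => κ * ho q (Pi.single j 1) (w i)
  have hΨ : ∀ v i, (Ψ *ᵥ v) i = κ * ho q v (w i) := by
    intro v i
    have hv : v = ∑ j, v j • (Pi.single j (1 : F) : Fin n → F) := by
      funext j
      simp [Finset.sum_apply, Pi.single_apply]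
    have hsum : ∀ t : Finset (Fin n), ho q (∑ j ∈ t, v j • (Pi.single j (1 : F) : Fin n → F)) (w i) =
        ∑ j ∈ t, v j * ho q (Pi.single j 1) (w i) := by
      intro t
      induction t using Finset.induction_on with
      | empty => rw [Finset.sum_empty, Finset.sum_empty, ho_zero_left]
      | insert a t ha ih => rw [Finset.sum_insert ha, Finset.sum_insert ha, ho_add_left, ho_smul_left, ih]
    conv_rhs => rw [hv, hsum]
    rw [Matrix.mulVec, dotProduct, Finset.mul_sum]
    refine Finset.sum_congr rfl fun j _ => ?_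
    change κ * ho q (Pi.single j 1) (w i) * v j = _
    ring
  have hentry : ∀ M : Matrix (Fin n) (Fin n) F, ∀ i j, (Ψ * (M * P)) i j = κ * ho q (M *ᵥ w j) (w i) := by
    intro M i j
    rw [← hΨ, ← hPj j, Matrix.mulVec_mulVec, Matrix.mulVec_mulVec, Matrix.mulVec_single_one, Matrix.mul_assoc]
    rfl
  have hG : ∀ i j, (Ψ * P) i j ∈ L := by
    intro i j
    have h1 := hentry 1 i j
    rw [one_mul, Matrix.one_mulVec] at h1
    rw [h1]
    exact hval _ (hw j) _ (hw i)
  have hX : ∀ i j, (Ψ * (g * P)) i j ∈ L := by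
    intro i j
    rw [hentry]
    exact hval _ (hinv g hg _ (hw j)) _ (hw i)
  let G0 : Matrix (Fin n) (Fin n) L := Matrix.of fun i j => ⟨(Ψ * P) i j, hG i j⟩
  let X0 : Matrix (Fin n) (Fin n) L := Matrix.of fun i j => ⟨(Ψ * ((g : Matrix (Fin n) (Fin n) F) * P)) i j, hX i j⟩
  have hG0 : L.subtype.mapMatrix G0 = Ψ * P := by
    ext i j
    rfl
  have hX0 : L.subtype.mapMatrix X0 = Ψ * (g * P) := by
    ext i j
    rfl
  have hΨdet : Ψ.det ≠ 0 := by
    intro h0
    obtain ⟨c, hc0, hc⟩ := (Matrix.exists_mulVec_eq_zero_iff (M := Ψ)).2 h0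
    apply hc0
    apply eq_zero_of_ho_right hF (q := q)
    intro u
    have h1 : ∀ i, ho q c (w i) = 0 := by
      intro i
      have h2 := congrFun hc i
      rw [hΨ, Pi.zero_apply] at h2
      exact (mul_eq_zero.1 h2).resolve_left hκ
    have h3 : u ∈ Submodule.span F (Set.range w) := by rw [w.span_eq]; trivial
    induction h3 using Submodule.span_induction with
    | mem x hx => obtain ⟨i, rfl⟩ := hx; exact h1 i
    | zero => exact ho_zero_right hF c
    | add x y _ _ hx hy => rw [ho_add_right hF, hx, hy, add_zero]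
    | smul s x _ hx => rw [ho_smul_right, hx, mul_zero]
  have hG0det : G0.det ≠ 0 := by
    intro h0
    have h1 := congrArg L.subtype h0
    rw [RingHom.map_det, hG0, map_zero, Matrix.det_mul] at h1
    exact mul_ne_zero hΨdet hPdet h1
  have hY : G0⁻¹ * G0 = 1 := Matrix.nonsing_inv_mul _ (isUnit_iff_ne_zero.2 hG0det)
  have hfin : S = L.subtype.mapMatrix (G0⁻¹ * X0) := by
    have h1 : L.subtype.mapMatrix G0⁻¹ * (Ψ * P) = 1 := by
      rw [← hG0, ← map_mul, hY, map_one]
    calc S = (L.subtype.mapMatrix G0⁻¹ * (Ψ * P)) * S := by rw [h1, one_mul]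
      _ = L.subtype.mapMatrix G0⁻¹ * (Ψ * (g * P)) := by rw [← hPS]; simp only [mul_assoc]
      _ = L.subtype.mapMatrix (G0⁻¹ * X0) := by rw [← hX0, map_mul]
  intro i j
  rw [hfin]
  exact ((G0⁻¹ * X0) i j).2

/-! ### The field `K` -/

/-- trace and norm of a triple product -/
theorem Dat.tau (D : Dat q H) (G : Good q H) {κ : F} {x y z : Fin n → F} (hx : Om q H κ x) (hy : Om q H κ y)
    (hz : Om q H κ z) :
    (κ * ho q x y) * (κ * ho q y z) * (κ * ho q z x) +
        ((κ * ho q x y) * (κ * ho q y z) * (κ * ho q z x)) ^ q ∈ mf D.card H ∧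
      (κ * ho q x y) * (κ * ho q y z) * (κ * ho q z x) *
        ((κ * ho q x y) * (κ * ho q y z) * (κ * ho q z x)) ^ q ∈ mf D.card H := by
  have hF := D.card
  have hκt : κ + κ ^ q = 0 := hx.2.tr
  set A := κ * ho q x y with hA
  set B := κ * ho q y z with hB
  set C' := κ * ho q z x with hC'
  set A' := κ * ho q y x with hA'
  set B' := κ * ho q z y with hB'
  set C := κ * ho q x z with hC
  have eA : A ^ q = -A' := by rw [hA', kho_swap hF hκt x y, neg_neg]
  have eB : B ^ q = -B' := by rw [hB', kho_swap hF hκt y z, neg_neg]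
  have eC : C' ^ q = -C := by rw [hC, kho_swap hF hκt z x, neg_neg]
  have eB' : B' ^ q = -B := by rw [hB, kho_swap hF hκt z y, neg_neg]
  have nA : A * A' ∈ mf D.card H := D.sq_mem G hx hy
  have nB : B * B' ∈ mf D.card H := D.sq_mem G hy hz
  have nC : C * C' ∈ mf D.card H := D.sq_mem G hx hz
  have hτ : (A * B * C') ^ q = -(A' * B' * C) := by
    rw [mul_pow, mul_pow, eA, eB, eC]
    ring
  have hu := D.om_move hy hz (mf D.card H).one_mem
  have e1 := D.sq_mem G hx hu
  have f1 : κ * ho q x (z + (1 * B') • y) = C - A * B := by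
    rw [ho_add_right hF, ho_smul_right, one_mul, eB', hC, hA]
    ring
  have f2 : κ * ho q (z + (1 * B') • y) x = C' + B' * A' := by
    rw [ho_add_left, ho_smul_left, one_mul, hC', hA']
    ring
  rw [f1, f2] at e1
  constructor
  · rw [hτ]
    have h2 := (mf D.card H).sub_mem ((mf D.card H).sub_mem nC e1) ((mf D.card H).mul_mem nA nB)
    have e3 : C * C' - (C - A * B) * (C' + B' * A') - A * A' * (B * B') = A * B * C' + -(A' * B' * C) := by ring
    rwa [e3] at h2
  · rw [hτ]
    have h2 := (mf D.card H).neg_mem ((mf D.card H).mul_mem ((mf D.card H).mul_mem nA nB) nC)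
    have e3 : -(A * A' * (B * B') * (C * C')) = A * B * C' * -(A' * B' * C) := by ring
    rwa [e3] at h2

/-- the elements fixed by the `Q`-th power, `Q` a power of the characteristic -/
def fixF (p : ℕ) [Fact p.Prime] [CharP F p] (k : ℕ) : Subfield F where
  carrier := {s | s ^ p ^ k = s}
  mul_mem' {s t} hs ht := by
    change (s * t) ^ p ^ k = s * t
    rw [mul_pow, hs, ht]
  one_mem' := one_pow _
  add_mem' {s t} hs ht := by
    change (s + t) ^ p ^ k = s + t
    rw [add_pow_char_pow, hs, ht]
  zero_mem' := by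
    change (0 : F) ^ p ^ k = 0
    exact zero_pow (pow_ne_zero _ (Fact.out : p.Prime).ne_zero)
  neg_mem' {s} hs := by
    change (-s) ^ p ^ k = -s
    have h1 : (-s) ^ p ^ k + s ^ p ^ k = 0 := by
      rw [← add_pow_char_pow, neg_add_cancel, zero_pow (pow_ne_zero _ (Fact.out : p.Prime).ne_zero)]
    rw [eq_neg_iff_add_eq_zero]
    have h2 : s ^ p ^ k = s := hs
    rwa [h2] at h1
  inv_mem' s hs := by
    change (s⁻¹) ^ p ^ k = s⁻¹
    have h2 : s ^ p ^ k = s := hs
    rw [inv_pow, h2]

theorem mem_fixF {p : ℕ} [Fact p.Prime] [CharP F p] {k : ℕ} {s : F} : s ∈ fixF p k ↔ s ^ p ^ k = s := Iff.rfl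

/-- an element with trace and norm in `k`, `|k| = Q`, is fixed by the `Q²`-th power -/
theorem root_fix {p : ℕ} [Fact p.Prime] [CharP F p] {k : ℕ} {τ σ : F} (h1 : (τ + σ) ^ p ^ k = τ + σ)
    (h2 : (τ * σ) ^ p ^ k = τ * σ) : τ ^ p ^ (k + k) = τ := by
  have hadd := add_pow_char_pow (p := p) (n := k) τ σ
  have h3 : τ ^ p ^ k + σ ^ p ^ k = τ + σ := by rw [← hadd, h1]
  have h4 : τ ^ p ^ k * σ ^ p ^ k = τ * σ := by rw [← mul_pow, h2]
  have h5 : (τ ^ p ^ k - τ) * (τ ^ p ^ k - σ) = 0 := by linear_combination τ ^ p ^ k * h3 - h4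
  have h6 : τ ^ p ^ (k + k) = (τ ^ p ^ k) ^ p ^ k := by rw [pow_add, pow_mul]
  rw [h6]
  rcases mul_eq_zero.1 h5 with h | h
  · rw [sub_eq_zero.1 h, sub_eq_zero.1 h]
  · have h7 := sub_eq_zero.1 h
    rw [h7]
    rw [h7] at h3
    linear_combination h3

end Cfsg.Agent.H453.OddM.Un
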