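import Cfsg.Agent.H453.OddM.UnK

/-!
# TEAM ODDM (S4785): irreducible groups generated by unitary transvections, odd characteristic: the theorem,
from `Good` (PART C) and `Full` (PART E)
-/

set_option autoImplicit false
set_option linter.unusedSectionVars false

namespace Cfsg.Agent.H453.OddM.Un

open Cfsg Module Cfsg.Agent.LieClassical.HermBasic Cfsg.Agent.ClassicalGeometry.UnitTransv
open scoped Matrix MatrixGroups

variable {F : Type*} [Field F] {n : ℕ} [Fintype F] {q : ℕ} {H : Subgroup (GL (Fin n) F)}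

/-- the conclusion of PART E -/
def Full (q : ℕ) (H : Subgroup (GL (Fin n) F)) : Prop :=
  (∀ (x : Fin n → F) (c d : F), c ≠ 0 → TM q H x c → d + d ^ q = 0 → TM q H x d) →
  ∀ x y z : Fin n → F, Cen q H x → Cen q H y → Cen q H z →
    ho q x y * ho q y z * ho q z x + ho q x z * ho q z y * ho q y x ≠ 0 →
    ∀ (a : Fin n → F) (c : F), ho q a a = 0 → c + c ^ q = 0 → TM q H a c

/-- the triangle property for `K` -/
theorem Dat.tri_K (D : Dat q H) (G : Good q H) {p : ℕ} [Fact p.Prime] [CharP F p] {k : ℕ}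
    (hk : ∀ s ∈ mf D.card H, s ^ p ^ k = s) {κ : F} : Tri q H (fixF p (k + k)) κ := by
  have hF := D.card
  rintro x y z ⟨hx, hy, hA, hA0⟩ ⟨-, hz, hB, hB0⟩
  have hκt : κ + κ ^ q = 0 := hx.2.tr
  obtain ⟨h1, h2⟩ := D.tau G hx hy hz
  have h3 : (κ * ho q x y) * (κ * ho q y z) * (κ * ho q z x) ∈ fixF p (k + k) :=
    root_fix (hk _ h1) (hk _ h2)
  have h4 : (κ * ho q x y) * (κ * ho q y z) ∈ fixF p (k + k) := (fixF p (k + k)).mul_mem hA hB
  have h5 := (fixF p (k + k)).div_mem h3 h4
  rw [mul_div_cancel_left₀ _ (mul_ne_zero hA0 hB0)] at h5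
  exact kho_swap_mem hF hκt h5

/-- the subfield of order `q` -/
def fq (hF : Fintype.card F = q ^ 2) : Subfield F where
  carrier := {s | s ^ q = s}
  mul_mem' {s t} hs ht := by
    change (s * t) ^ q = s * t
    rw [mul_pow, hs, ht]
  one_mem' := one_pow _
  add_mem' {s t} hs ht := by
    change (s + t) ^ q = s + t
    rw [add_pow_q hF, hs, ht]
  zero_mem' := zero_pow_q hF
  neg_mem' {s} hs := by
    change (-s) ^ q = -s
    rw [neg_pow_q hF, hs]
  inv_mem' s hs := by
    change (s⁻¹) ^ q = s⁻¹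
    have h2 : s ^ q = s := hs
    rw [inv_pow, h2]

theorem mem_fq {hF : Fintype.card F = q ^ 2} {s : F} : s ∈ fq hF ↔ s ^ q = s := Iff.rfl

/-- the triangle property for `F_q` if all triangles are degenerate -/
theorem Dat.tri_q (D : Dat q H) {κ : F}
    (hdeg : ∀ x y z : Fin n → F, Cen q H x → Cen q H y → Cen q H z →
      ho q x y * ho q y z * ho q z x + ho q x z * ho q z y * ho q y x = 0) : Tri q H (fq D.card) κ := by
  have hF := D.card
  rintro x y z ⟨hx, hy, hA, hA0⟩ ⟨-, hz, hB, hB0⟩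
  have hκt : κ + κ ^ q = 0 := hx.2.tr
  have hκ0 : κ ≠ 0 := left_ne_zero_of_mul hA0
  have hc : ∀ w, Om q H κ w → Cen q H w := fun w hw => ⟨hw.1, κ, hκ0, hw.2⟩
  have h1 := hdeg x y z (hc x hx) (hc y hy) (hc z hz)
  have h3 : (κ * ho q x y) * (κ * ho q y z) * (κ * ho q z x) ∈ fq hF := by
    rw [mem_fq, mul_pow, mul_pow]
    have eA : (κ * ho q x y) ^ q = -(κ * ho q y x) := by rw [kho_swap hF hκt x y, neg_neg]
    have eB : (κ * ho q y z) ^ q = -(κ * ho q z y) := by rw [kho_swap hF hκt y z, neg_neg]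
    have eC : (κ * ho q z x) ^ q = -(κ * ho q x z) := by rw [kho_swap hF hκt z x, neg_neg]
    rw [eA, eB, eC]
    linear_combination (-κ ^ 3) * h1
  have h4 : (κ * ho q x y) * (κ * ho q y z) ∈ fq hF := (fq hF).mul_mem hA hB
  have h5 := (fq hF).div_mem h3 h4
  rw [mul_div_cancel_left₀ _ (mul_ne_zero hA0 hB0)] at h5
  exact kho_swap_mem hF hκt h5

/-- **Irreducible groups generated by unitary transvections, odd characteristic.** -/
theorem main_of (D : Dat q H) (G : Good q H) (E : Full q H) :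
    (∀ (a : Fin n → F) (c : F), ho q a a = 0 → c + c ^ q = 0 → TM q H a c) ∨
      ∃ k : Subfield F, k ≠ ⊤ ∧ Geo.RealisableOver k (Geo.matrixSet (Nt q H)) := by
  classical
  have hF := D.card
  obtain ⟨a, κ, ha, hκ, haκ⟩ := D.ne
  have hao : Om q H κ a := ⟨ha, haκ⟩
  obtain ⟨p, hp⟩ := CharP.exists F
  have hpp : p.Prime := CharP.char_is_prime F p
  have : Fact p.Prime := ⟨hpp⟩
  -- the order of the multiplier field
  obtain ⟨k, hk1, hk2⟩ : ∃ k : ℕ, Nat.card (mf hF H) = p ^ k ∧ 0 < k := by
    have : Fintype (mf hF H) := Fintype.ofFinite _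
    have : CharP (mf hF H) p := (RingHom.charP_iff (mf hF H).subtype Subtype.val_injective p).2 hp
    obtain ⟨m, -, hm⟩ := FiniteField.card (mf hF H) p
    exact ⟨m, by rw [Nat.card_eq_fintype_card, hm], m.pos⟩
  have hfix : ∀ s ∈ mf hF H, s ^ p ^ k = s := by
    intro s hs
    have : Fintype (mf hF H) := Fintype.ofFinite _
    have h1 := FiniteField.pow_card (⟨s, hs⟩ : mf hF H)
    rw [← Nat.card_eq_fintype_card, hk1] at h1
    exact congrArg Subtype.val h1
  have hle : mf hF H ≤ fixF p (k + k) := by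
    intro s hs
    rw [mem_fixF, pow_add, pow_mul, hfix s hs, hfix s hs]
  by_cases hK : (fixF p (k + k) : Subfield F) = ⊤
  swap
  · right
    obtain ⟨B, hB⟩ := D.rational G hκ hao hle (D.tri_K G hfix)
    refine ⟨_, hK, B, ?_⟩
    rintro _ ⟨g, hg, rfl⟩ i j
    exact hB g hg i j
  -- `K = F`: the multiplier field has order `q`
  have hq0 : 0 < q := q_pos hF
  have hcard : q ≤ p ^ k := by
    have h1 : ∀ s : F, s ^ p ^ (k + k) = s := by
      intro s
      have : s ∈ (fixF p (k + k) : Subfield F) := by rw [hK]; trivial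
      exact this
    have h2 : Fintype.card F ≤ p ^ (k + k) := by
      have h3 : 1 < p ^ (k + k) := Nat.one_lt_pow (by omega) hpp.one_lt
      have h4 := FiniteField.X_pow_card_sub_X_natDegree_eq F h3
      have h5 : (Polynomial.X ^ p ^ (k + k) - Polynomial.X : Polynomial F) ≠ 0 :=
        FiniteField.X_pow_card_sub_X_ne_zero F h3
      have h6 : (Finset.univ : Finset F).card ≤ (Polynomial.X ^ p ^ (k + k) - Polynomial.X : Polynomial F).natDegree := by
        refine Polynomial.card_le_degree_of_subset_roots (Z := Finset.univ) ?_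
        intro s _
        rw [Polynomial.mem_roots h5, Polynomial.IsRoot, Polynomial.eval_sub, Polynomial.eval_pow, Polynomial.eval_X,
          h1 s, sub_self]
      rwa [h4, Finset.card_univ] at h6
    rw [hF, ← two_mul, pow_mul'] at h2
    exact (Nat.pow_le_pow_iff_left two_ne_zero).1 h2
  have hall : ∀ s : F, s ^ q = s → s ∈ mf hF H := by
    intro s hs
    let φ : mf hF H → {x : F // x ^ q = x} := fun x => ⟨x.1, D.mf_fix x.2⟩
    have hφ : Function.Injective φ := by
      intro x y hxy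
      have h0 : (φ x).1 = (φ y).1 := by rw [hxy]
      exact Subtype.ext h0
    have h1 : Nat.card (mf hF H) ≤ Nat.card {x : F // x ^ q = x} := Nat.card_le_card_of_injective φ hφ
    have h2 : Function.Bijective φ := by
      rw [Nat.bijective_iff_injective_and_card]
      refine ⟨hφ, ?_⟩
      rw [card_fixed hF] at h1 ⊢
      rw [hk1] at h1 ⊢
      omega
    obtain ⟨x, hx⟩ := h2.2 ⟨s, hs⟩
    have h3 : x.1 = s := congrArg Subtype.val hx
    rw [← h3]
    exact x.2
  have hfull : ∀ (x : Fin n → F) (c d : F), c ≠ 0 → TM q H x c → d + d ^ q = 0 → TM q H x d := by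
    intro x c d hc hx hd
    have h1 : d / c ∈ mf hF H := by
      apply hall
      have h2 : c ^ q = -c := by linear_combination hx.tr
      have h3 : d ^ q = -d := by linear_combination hd
      rw [div_pow, h2, h3, neg_div_neg_eq]
    have h4 := h1 x c hx
    rwa [div_mul_cancel₀ _ hc] at h4
  by_cases hdeg : ∀ x y z : Fin n → F, Cen q H x → Cen q H y → Cen q H z →
      ho q x y * ho q y z * ho q z x + ho q x z * ho q z y * ho q y x = 0
  · right
    have hle' : mf hF H ≤ fq hF := fun s hs => D.mf_fix hs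
    obtain ⟨B, hB⟩ := D.rational G hκ hao hle' (D.tri_q hdeg)
    refine ⟨fq hF, ?_, B, ?_⟩
    · intro h
      obtain ⟨x, hx⟩ := exists_not_fixed hF
      apply hx
      have : x ∈ fq hF := by rw [h]; trivial
      exact this
    · rintro _ ⟨g, hg, rfl⟩ i j
      exact hB g hg i j
  · left
    push Not at hdeg
    obtain ⟨x, y, z, hx, hy, hz, h⟩ := hdeg
    exact E hfull x y z hx hy hz h

end Cfsg.Agent.H453.OddM.Un
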